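import Cfsg.Agent.H409.PrimeBase
set_option linter.all false

/-!
Transitive insoluble groups of prime degree `p ≡ 3 (mod 4)` containing all the maps
`x ↦ s ^ 2 * x + b`: the stabiliser of two points has at most two orbits on the remaining points,
and has the same orbits there as the setwise stabiliser of the two points.
-/

set_option autoImplicit false

namespace Cfsg.Agent.H409

theorem isSquare_or_neg {p : ℕ} [Fact p.Prime] (hp3 : p % 4 = 3) {u : ZMod p} (hu : u ≠ 0) :
    IsSquare u ∨ IsSquare (-u) := by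
  classical
  have h1 : ¬ IsSquare (-1 : ZMod p) := fun h => (ZMod.exists_sq_eq_neg_one_iff.1 h) hp3
  by_cases h : IsSquare u
  · exact Or.inl h
  · right
    rw [← quadraticChar_one_iff_isSquare (neg_ne_zero.2 hu), neg_eq_neg_one_mul, map_mul,
      quadraticChar_neg_one_iff_not_isSquare.2 h, quadraticChar_neg_one_iff_not_isSquare.2 h1]
    rfl

theorem two_ne_zero_of_three_mod_four {p : ℕ} (hp3 : p % 4 = 3) : (2 : ZMod p) ≠ 0 := by
  intro h
  have h3 : ((2 : ℕ) : ZMod p) = 0 := by exact_mod_cast h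
  rw [ZMod.natCast_eq_zero_iff] at h3
  have := Nat.le_of_dvd (by norm_num) h3
  omega

section

variable {G Ω : Type*} [Group G] [MulAction G Ω] {p : ℕ} [Fact p.Prime]

/-- All maps `x ↦ s ^ 2 * x + b` (`s ≠ 0`) are induced by `G`. -/
def HalfAff (G : Type*) {Ω : Type*} [Group G] [MulAction G Ω] {p : ℕ} (e : Ω ≃ ZMod p) : Prop :=
  ∀ s b : ZMod p, s ≠ 0 → ∃ g : G, ∀ x, e (g • x) = s ^ 2 * e x + b

/-- An affine map with square slope takes `(0, 1)` to a given pair or to its reverse. -/
theorem HalfAff.exists_pair {e : Ω ≃ ZMod p} (he : HalfAff G e) (hp3 : p % 4 = 3) {y z : Ω}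
    (hyz : y ≠ z) :
    (∃ (g : G) (s b : ZMod p), s ≠ 0 ∧ (∀ x, e (g • x) = s ^ 2 * e x + b) ∧
      g • e.symm 0 = y ∧ g • e.symm 1 = z) ∨
    (∃ (g : G) (s b : ZMod p), s ≠ 0 ∧ (∀ x, e (g • x) = s ^ 2 * e x + b) ∧
      g • e.symm 0 = z ∧ g • e.symm 1 = y) := by
  have key : ∀ y z : Ω, y ≠ z → IsSquare (e z - e y) →
      (∃ (g : G) (s b : ZMod p), s ≠ 0 ∧ (∀ x, e (g • x) = s ^ 2 * e x + b) ∧
      g • e.symm 0 = y ∧ g • e.symm 1 = z) := by
    rintro y z hyz ⟨s, hs⟩
    have hs0 : s ≠ 0 := by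
      rintro rfl
      rw [mul_zero, sub_eq_zero] at hs
      exact hyz (e.injective hs.symm)
    obtain ⟨g, hg⟩ := he s (e y) hs0
    refine ⟨g, s, e y, hs0, hg, e.injective ?_, e.injective ?_⟩
    · rw [hg]; simp
    · rw [hg]; simp only [Equiv.apply_symm_apply]; linear_combination -hs
  have hne : e z - e y ≠ 0 := fun h => hyz (e.injective (sub_eq_zero.1 h).symm)
  rcases isSquare_or_neg hp3 hne with h | h
  · exact Or.inl (key y z hyz h)
  · refine Or.inr (key z y hyz.symm ?_)
    rwa [neg_sub] at h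

variable [Fintype Ω] [FaithfulSMul G Ω]

/-- **Kernel lemma.** An invariant function of a point and a pair which is symmetric up to a
factor and kills the constants and the label function is constant in the point. -/
theorem kernel_const (hΩ : Nat.card Ω = p) (htrans : MulAction.IsPretransitive G Ω)
    (hins : ¬ Group.IsSolvable G) (hp3 : p % 4 = 3) {e : Ω ≃ ZMod p} (he : HalfAff G e)
    (c : Ω → Ω → Ω → ZMod p) (hc : ∀ (g : G) x y z, c (g • x) (g • y) (g • z) = c x y z)
    (ε : ZMod p) (hsym : ∀ x y z, c x y z = ε * c x z y)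
    (hκ : ∀ y z, y ≠ z → ∑ x, c x y z = 0)
    (hφ : ∑ x, c x (e.symm 0) (e.symm 1) * e x = 0) :
    ∀ y z, y ≠ z → ∀ x x', c x y z = c x' y z := by
  classical
  have hp : p.Prime := Fact.out
  have h2 := two_ne_zero_of_three_mod_four hp3
  let T : Ω → Ω → ZMod p := fun y z => ∑ x, c x y z * e x
  have hT1 : ∀ (g : G) (s b : ZMod p), (∀ x, e (g • x) = s ^ 2 * e x + b) → ∀ y z, y ≠ z →
      T (g • y) (g • z) = s ^ 2 * T y z := by
    intro g s b hg y z hyz
    have h1 : T (g • y) (g • z) = ∑ x, c (g • x) (g • y) (g • z) * e (g • x) :=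
      (Equiv.sum_comp (MulAction.toPerm g) (fun x => c x (g • y) (g • z) * e x)).symm
    rw [h1]
    simp_rw [hc, hg]
    have h2 : ∀ x, c x y z * (s ^ 2 * e x + b) = s ^ 2 * (c x y z * e x) + b * c x y z := by
      intro x; ring
    simp_rw [h2]
    rw [Finset.sum_add_distrib, ← Finset.mul_sum, ← Finset.mul_sum, hκ y z hyz, mul_zero, add_zero]
  have h01 : e.symm 0 ≠ e.symm 1 := fun h => zero_ne_one (e.symm.injective h)
  have hT2 : ∀ y z, T y z = ε * T z y := by
    intro y z
    simp only [T]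
    rw [Finset.mul_sum]
    refine Finset.sum_congr rfl fun x _ => ?_
    rw [hsym x y z]; ring
  have hT : ∀ y z, y ≠ z → T y z = 0 := by
    intro y z hyz
    rcases he.exists_pair hp3 hyz with ⟨g, s, b, hs, hg, h3, h4⟩ | ⟨g, s, b, hs, hg, h3, h4⟩
    · rw [← h3, ← h4, hT1 g s b hg _ _ h01]
      change s ^ 2 * ∑ x, c x (e.symm 0) (e.symm 1) * e x = 0
      rw [hφ, mul_zero]
    · rw [hT2, ← h3, ← h4, hT1 g s b hg _ _ h01]
      change ε * (s ^ 2 * ∑ x, c x (e.symm 0) (e.symm 1) * e x) = 0
      rw [hφ, mul_zero, mul_zero]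
  let W : Submodule (ZMod p) (Ω → ZMod p) :=
    { carrier := {f | ∑ x, f x = 0 ∧ ∀ y z, y ≠ z → ∑ x, c x y z * f x = 0}
      add_mem' := by
        rintro f f' ⟨h1, h2⟩ ⟨h3, h4⟩
        refine ⟨?_, fun y z hyz => ?_⟩
        · simp only [Pi.add_apply, Finset.sum_add_distrib, h1, h3, add_zero]
        · simp only [Pi.add_apply, mul_add, Finset.sum_add_distrib, h2 y z hyz, h4 y z hyz,
            add_zero]
      zero_mem' := by simp
      smul_mem' := by
        rintro a f ⟨h1, h2⟩
        refine ⟨?_, fun y z hyz => ?_⟩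
        · simp only [Pi.smul_apply, smul_eq_mul, ← Finset.mul_sum, h1, mul_zero]
        · have h3 : ∀ x, c x y z * (a • f) x = a * (c x y z * f x) := by
            intro x; simp only [Pi.smul_apply, smul_eq_mul]; ring
          simp_rw [h3]
          rw [← Finset.mul_sum, h2 y z hyz, mul_zero] }
  have hmem : ∀ f, f ∈ W ↔ ∑ x, f x = 0 ∧ ∀ y z, y ≠ z → ∑ x, c x y z * f x = 0 :=
    fun f => Iff.rfl
  have hW : ∀ g : G, ∀ f ∈ W, (fun x => f (g • x)) ∈ W := by
    rintro g f hf
    rw [hmem] at hf ⊢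
    refine ⟨?_, fun y z hyz => ?_⟩
    · rw [← hf.1]
      exact Equiv.sum_comp (MulAction.toPerm g) f
    · have h1 := hf.2 (g • y) (g • z) (fun h => hyz (MulAction.injective g h))
      rw [← h1, ← Equiv.sum_comp (MulAction.toPerm g) (fun x => c x (g • y) (g • z) * f x)]
      refine Finset.sum_congr rfl fun x _ => ?_
      change c x y z * f (g • x) = c (g • x) (g • y) (g • z) * f (g • x)
      rw [hc]
  have hesum : ∑ x, e x = 0 := by
    have h3 : ∑ x, e x = ∑ y : ZMod p, y := Fintype.sum_equiv e _ _ fun x => rfl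
    have h4 : ∑ y : ZMod p, y = ∑ y : ZMod p, -y :=
      (Fintype.sum_equiv (Equiv.neg (ZMod p)) _ _ fun x => rfl).symm
    rw [Finset.sum_neg_distrib] at h4
    have h5 : 2 * ∑ y : ZMod p, y = 0 := by linear_combination h4
    rw [h3]
    exact (mul_eq_zero.1 h5).resolve_left h2
  have heW : (e : Ω → ZMod p) ∈ W := ⟨hesum, hT⟩
  rcases heart hΩ htrans hins W hW (fun f hf => hf.1) with h | h
  · exfalso
    obtain ⟨a, ha⟩ := h e heW
    have h3 := congrFun ha (e.symm 0)
    have h4 := congrFun ha (e.symm 1)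
    simp at h3 h4
    rw [← h3] at h4
    exact one_ne_zero h4
  · intro y z hyz x x'
    by_cases hxx : x = x'
    · rw [hxx]
    have h3 : (fun w => (if w = x then (1 : ZMod p) else 0) - (if w = x' then 1 else 0)) ∈ W := by
      apply h
      rw [Finset.sum_sub_distrib]
      simp
    have h4 := h3.2 y z hyz
    simp only [mul_sub, mul_ite, mul_one, mul_zero, Finset.sum_sub_distrib, Finset.sum_ite_eq',
      Finset.mem_univ, if_true] at h4
    exact sub_eq_zero.1 h4

/-- An antisymmetric invariant function killing the label function vanishes. -/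
theorem antisym_eq_zero (hΩ : Nat.card Ω = p) (htrans : MulAction.IsPretransitive G Ω)
    (hins : ¬ Group.IsSolvable G) (hp3 : p % 4 = 3) {e : Ω ≃ ZMod p} (he : HalfAff G e)
    (c : Ω → Ω → Ω → ZMod p) (hc : ∀ (g : G) x y z, c (g • x) (g • y) (g • z) = c x y z)
    (hsym : ∀ x y z, c x y z = - c x z y)
    (hφ : ∑ x, c x (e.symm 0) (e.symm 1) * e x = 0) :
    ∀ y z, y ≠ z → ∀ x, c x y z = 0 := by
  classical
  have h2 := two_ne_zero_of_three_mod_four hp3
  have htwo := two_transitive (G := G) (Ω := Ω) (by rw [hΩ]; exact Fact.out) htrans hins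
  have hκ : ∀ y z, y ≠ z → ∑ x, c x y z = 0 := by
    intro y z hyz
    obtain ⟨g, hg1, hg2⟩ := htwo y z z y hyz hyz.symm
    have h1 : ∑ x, c x y z = ∑ x, c x z y := by
      rw [← Equiv.sum_comp (MulAction.toPerm g) (fun x => c x z y)]
      refine Finset.sum_congr rfl fun x _ => ?_
      change c x y z = c (g • x) z y
      rw [← hc g x y z, hg1, hg2]
    have h3 : ∑ x, c x y z = - ∑ x, c x z y := by
      rw [← Finset.sum_neg_distrib]
      exact Finset.sum_congr rfl fun x _ => hsym x y z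
    have h4 : 2 * ∑ x, c x y z = 0 := by linear_combination h1 + h3
    exact (mul_eq_zero.1 h4).resolve_left h2
  have hconst := kernel_const hΩ htrans hins hp3 he c hc (-1)
    (fun x y z => by rw [hsym]; ring) hκ hφ
  intro y z hyz x
  obtain ⟨g, hg1, hg2⟩ := htwo y z z y hyz hyz.symm
  have h1 : c (g • x) z y = c x y z := by rw [← hc g x y z, hg1, hg2]
  have h3 : c (g • x) z y = c x z y := hconst z y hyz.symm _ _
  have h4 : 2 * c x y z = 0 := by linear_combination hsym x y z - h1 + h3
  exact (mul_eq_zero.1 h4).resolve_left h2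

/-- Two triples lie in the same orbit. -/
def Same (G : Type*) {Ω : Type*} [Group G] [MulAction G Ω] (x y z x' y' z' : Ω) : Prop :=
  ∃ g : G, g • x = x' ∧ g • y = y' ∧ g • z = z'

omit [Fintype Ω] [FaithfulSMul G Ω] in
theorem Same.refl (x y z : Ω) : Same G x y z x y z := ⟨1, by simp⟩

omit [Fintype Ω] [FaithfulSMul G Ω] in
theorem Same.symm {x y z x' y' z' : Ω} (h : Same G x y z x' y' z') : Same G x' y' z' x y z := by
  obtain ⟨g, rfl, rfl, rfl⟩ := h
  exact ⟨g⁻¹, by simp⟩

omit [Fintype Ω] [FaithfulSMul G Ω] in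
theorem Same.trans {x y z x' y' z' x'' y'' z'' : Ω} (h : Same G x y z x' y' z')
    (h' : Same G x' y' z' x'' y'' z'') : Same G x y z x'' y'' z'' := by
  obtain ⟨g, rfl, rfl, rfl⟩ := h
  obtain ⟨g', rfl, rfl, rfl⟩ := h'
  exact ⟨g' * g, by simp [mul_smul]⟩

omit [Fintype Ω] [FaithfulSMul G Ω] in
theorem same_smul_iff (g : G) {x y z x' y' z' : Ω} :
    Same G x y z (g • x') (g • y') (g • z') ↔ Same G x y z x' y' z' :=
  ⟨fun h => h.trans (Same.symm ⟨g, rfl, rfl, rfl⟩), fun h => h.trans ⟨g, rfl, rfl, rfl⟩⟩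

/-- **Swapping**: for three distinct points there is an element fixing the first and
interchanging the other two. -/
theorem swap_same (hΩ : Nat.card Ω = p) (htrans : MulAction.IsPretransitive G Ω)
    (hins : ¬ Group.IsSolvable G) (hp3 : p % 4 = 3) {e : Ω ≃ ZMod p} (he : HalfAff G e)
    {x y z : Ω} (hyz : y ≠ z) (hxy : x ≠ y) (hxz : x ≠ z) : Same G x y z x z y := by
  classical
  by_contra hcon
  let c₁ : Ω → Ω → Ω → ZMod p := fun x' y' z' =>
    (if Same G x y z x' y' z' then 1 else 0) - (if Same G x y z x' z' y' then 1 else 0)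
  let c₀ : Ω → Ω → Ω → ZMod p := fun x' y' z' =>
    (if x' = y' then 1 else 0) - (if x' = z' then 1 else 0)
  set φ := ∑ w, c₁ w (e.symm 0) (e.symm 1) * e w with hφ
  have h0 := antisym_eq_zero hΩ htrans hins hp3 he (fun x' y' z' => c₁ x' y' z' + φ * c₀ x' y' z')
    ?_ ?_ ?_ y z hyz x
  · simp only [c₁, c₀] at h0
    rw [if_pos (Same.refl x y z), if_neg hcon, if_neg hxy, if_neg hxz] at h0
    simp at h0
  · intro g x' y' z'
    simp only [c₁, c₀, same_smul_iff, smul_left_cancel_iff]
  · intro x' y' z'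
    simp only [c₁, c₀]
    ring
  · simp only [add_mul, Finset.sum_add_distrib]
    rw [← hφ]
    have h1 : ∑ w, φ * c₀ w (e.symm 0) (e.symm 1) * e w = φ * (0 - 1) := by
      simp only [mul_assoc]
      rw [← Finset.mul_sum]
      congr 1
      simp only [c₀, sub_mul, ite_mul, one_mul, zero_mul, Finset.sum_sub_distrib,
        Finset.sum_ite_eq', Finset.mem_univ, if_true, Equiv.apply_symm_apply]
    rw [h1]
    ring

/-- **At most two orbits**: among three points outside `{y, z}` two are equivalent under the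
stabiliser of `y` and `z`. -/
theorem two_orbits (hΩ : Nat.card Ω = p) (htrans : MulAction.IsPretransitive G Ω)
    (hins : ¬ Group.IsSolvable G) (hp3 : p % 4 = 3) {e : Ω ≃ ZMod p} (he : HalfAff G e)
    {y z : Ω} (hyz : y ≠ z) (x : Fin 3 → Ω) (hx : ∀ i, x i ≠ y ∧ x i ≠ z) :
    ∃ i j, i ≠ j ∧ Same G (x i) y z (x j) y z := by
  classical
  by_contra hcon
  push Not at hcon
  have htwo := two_transitive (G := G) (Ω := Ω) (by rw [hΩ]; exact Fact.out) htrans hins
  let c : Fin 3 → Ω → Ω → Ω → ZMod p := fun i x' y' z' =>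
    if Same G (x i) y z x' y' z' then 1 else 0
  have hcinv : ∀ i (g : G) x' y' z', c i (g • x') (g • y') (g • z') = c i x' y' z' := by
    intro i g x' y' z'
    simp only [c, same_smul_iff]
  have hcsym : ∀ i x' y' z', c i x' y' z' = c i x' z' y' := by
    intro i x' y' z'
    have key : ∀ y' z', Same G (x i) y z x' y' z' → Same G (x i) y z x' z' y' := by
      rintro y' z' h
      refine h.trans (swap_same hΩ htrans hins hp3 he ?_ ?_ ?_)
      · obtain ⟨g, rfl, rfl, rfl⟩ := h
        exact fun h => hyz (MulAction.injective g h)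
      · obtain ⟨g, rfl, rfl, rfl⟩ := h
        exact fun h => (hx i).1 (MulAction.injective g h)
      · obtain ⟨g, rfl, rfl, rfl⟩ := h
        exact fun h => (hx i).2 (MulAction.injective g h)
    simp only [c]
    rw [show Same G (x i) y z x' y' z' ↔ Same G (x i) y z x' z' y' from ⟨key _ _, key _ _⟩]
  have hκinv : ∀ i y' z', y' ≠ z' →
      ∑ w, c i w y' z' = ∑ w, c i w (e.symm 0) (e.symm 1) := by
    intro i y' z' hyz'
    have h01 : e.symm 0 ≠ e.symm 1 := fun h => zero_ne_one (e.symm.injective h)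
    obtain ⟨g, hg1, hg2⟩ := htwo (e.symm 0) (e.symm 1) y' z' h01 hyz'
    rw [← Equiv.sum_comp (MulAction.toPerm g) (fun w => c i w y' z')]
    refine Finset.sum_congr rfl fun w _ => ?_
    change c i (g • w) y' z' = _
    rw [← hg1, ← hg2, hcinv]
  let L : (Fin 3 → ZMod p) →ₗ[ZMod p] (Fin 2 → ZMod p) :=
    { toFun := fun l => ![∑ i, l i * ∑ w, c i w (e.symm 0) (e.symm 1),
        ∑ i, l i * ∑ w, c i w (e.symm 0) (e.symm 1) * e w]
      map_add' := by
        intro l l'
        ext i
        fin_cases i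
        · simp [add_mul, Finset.sum_add_distrib]
        · simp [add_mul, Finset.sum_add_distrib]
      map_smul' := by
        intro a l
        ext i
        fin_cases i
        · simp [mul_assoc, Finset.mul_sum]
        · simp [mul_assoc, Finset.mul_sum] }
  have hker : LinearMap.ker L ≠ ⊥ := LinearMap.ker_ne_bot_of_finrank_lt (by simp)
  obtain ⟨l, hl, hl0⟩ := Submodule.exists_mem_ne_zero_of_ne_bot hker
  rw [LinearMap.mem_ker] at hl
  have hl1 : ∑ i, l i * ∑ w, c i w (e.symm 0) (e.symm 1) = 0 := congrFun hl 0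
  have hl2 : ∑ i, l i * ∑ w, c i w (e.symm 0) (e.symm 1) * e w = 0 := congrFun hl 1
  have hconst := kernel_const hΩ htrans hins hp3 he (fun x' y' z' => ∑ i, l i * c i x' y' z')
    ?_ 1 ?_ ?_ ?_ y z hyz
  · apply hl0
    funext j
    have h1 := hconst (x j) y
    have h3 : ∀ i, c i (x j) y z = if i = j then 1 else 0 := by
      intro i
      by_cases hij : i = j
      · subst hij
        simp only [c]
        rw [if_pos (Same.refl _ _ _)]
        simp
      · rw [if_neg hij]
        exact if_neg (hcon i j hij)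
    have h4 : ∀ i, c i y y z = 0 := by
      intro i
      apply if_neg
      rintro ⟨g, h5, h6, -⟩
      exact (hx i).1 (MulAction.injective g (h5.trans h6.symm))
    simp only [h3, h4, mul_ite, mul_one, mul_zero, Finset.sum_ite_eq', Finset.mem_univ,
      if_true, Finset.sum_const_zero] at h1
    exact h1
  · intro g x' y' z'
    simp only [hcinv]
  · intro x' y' z'
    rw [one_mul]
    exact Finset.sum_congr rfl fun i _ => by rw [hcsym]
  · intro y' z' hyz'
    rw [Finset.sum_comm]
    simp only [← Finset.mul_sum]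
    rw [← hl1]
    exact Finset.sum_congr rfl fun i _ => by rw [hκinv i y' z' hyz']
  · refine Eq.trans ?_ hl2
    simp only [Finset.sum_mul, Finset.mul_sum]
    rw [Finset.sum_comm]
    simp only [mul_assoc]

end

end Cfsg.Agent.H409
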