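import Cfsg.Agent.H452.FprCyc
import Cfsg.Agent.H597.L2Aut
import Cfsg.Agent.H973.ZPSp
import Cfsg.Agent.S2141
import Cfsg.Agent.S2142
import Cfsg.Agent.S2150
import Cfsg.Agent.H77.Final
import Cfsg.Agent.S2151
import Cfsg.Agent.S2152
import Cfsg.Agent.H141.SpinTwo
import Cfsg.Agent.H75.Transfer
import Cfsg.Agent.S2143
import Cfsg.Agent.S2144
import Cfsg.Agent.S2145
import Cfsg.Agent.S2146
import Cfsg.Agent.S2147
import Cfsg.Agent.H934.HeisE6_m3
import Cfsg.Agent.S0280
import Cfsg.Agent.S0282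
import Cfsg.Agent.S0293
import Cfsg.Agent.S0294
import Cfsg.Agent.S0245
import Cfsg.Agent.S0246
import Cfsg.Agent.S0296
import Cfsg.Agent.S0822
import Cfsg.Agent.FastGrp
import Cfsg.Agent.Prune
set_option linter.all false

section
prune_inst 0x7f00000000000000000000000000000000000000000000000000000000000000000000000000000000000000000000000000000000000000000000000000000000000000000000000000000000000000003fffffffffffffffffffffffffffbeffbdffffffff

-- part: H409/FprCycD
section
set_option linter.all false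
open scoped Cfsg.Agent.FastGrp

-- part: H409/FprCycA
section
/-!
# Cyclic Sylow subgroups of linear groups: counting elements of norm one
-/

set_option autoImplicit false

namespace Cfsg.Agent.H409.Cyc

/-- `r ^ f - 1` divides `r ^ k - 1` only if `f ∣ k`; small case. -/
theorem pow_sub_one_small {r f i : ℕ} (hr : 2 ≤ r) (hi : i < f) (hi0 : i ≠ 0)
    (h : r ^ f - 1 ∣ r ^ (2 * i) - 1) : 2 * i = f := by
  have h1 : ∀ k : ℕ, 0 < k → 1 < r ^ k := fun k hk => Nat.one_lt_pow hk.ne' (by omega)
  rcases Nat.lt_trichotomy (2 * i) f with h2 | h2 | h2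
  · exfalso
    have h3 := Nat.le_of_dvd (by have := h1 (2 * i) (by omega); omega) h
    have h4 : r ^ (2 * i) < r ^ f := Nat.pow_lt_pow_right (by omega) h2
    have := h1 (2 * i) (by omega)
    omega
  · exact h2
  · exfalso
    obtain ⟨j, hj⟩ : ∃ j, 2 * i = j + f := ⟨2 * i - f, by omega⟩
    have hj0 : 0 < j := by omega
    have hjf : j < f := by omega
    have h3 : r ^ (2 * i) - 1 = r ^ j * (r ^ f - 1) + (r ^ j - 1) := by
      rw [hj, pow_add]
      obtain ⟨a, ha⟩ : ∃ a, r ^ j = a + 1 := ⟨r ^ j - 1, by have := h1 j hj0; omega⟩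
      obtain ⟨b, hb⟩ : ∃ b, r ^ f = b + 1 := ⟨r ^ f - 1, by have := h1 f (by omega); omega⟩
      rw [ha, hb]
      simp only [Nat.add_sub_cancel]
      have : (a + 1) * (b + 1) = (a + 1) * b + a + 1 := by ring
      omega
    rw [h3] at h
    have h4 : r ^ f - 1 ∣ r ^ j - 1 := (Nat.dvd_add_right (dvd_mul_left _ _)).1 h
    have h5 := Nat.le_of_dvd (by have := h1 j hj0; omega) h4
    have h6 : r ^ j < r ^ f := Nat.pow_lt_pow_right (by omega) hjf
    have := h1 j hj0
    omega

/-- The number of elements of norm one. -/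
theorem norm_one_card {K : Type*} [Field K] [Finite K] (τ : K →+* K) (h2 : ∀ a, τ (τ a) = a)
    (h1 : ∃ a, τ a ≠ a) {s : ℕ} (hs : s ^ 2 = Nat.card K) : {c : K | c * τ c = 1}.ncard ≤ s + 1 := by
  classical
  have : Fintype K := Fintype.ofFinite K
  obtain ⟨p, hp⟩ := CharP.exists K
  have hpf : Fact p.Prime := ⟨CharP.char_is_prime K p⟩
  obtain ⟨f, hp', hf⟩ := FiniteField.card K p
  have hbij : Function.Bijective τ := ⟨τ.injective, fun a => ⟨τ a, h2 a⟩⟩
  obtain ⟨i, hi, hτ⟩ := Cfsg.Agent.H597.L2Aut.exists_frob hf (RingEquiv.ofBijective τ hbij)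
  have hτ' : ∀ a, τ a = a ^ p ^ i := hτ
  have hi0 : i ≠ 0 := by
    rintro rfl
    obtain ⟨a, ha⟩ := h1
    apply ha
    rw [hτ', pow_zero, pow_one]
  have hdvd : p ^ (f : ℕ) - 1 ∣ p ^ (2 * i) - 1 := by
    obtain ⟨g, hg⟩ := IsCyclic.exists_generator (α := Kˣ)
    have ho : orderOf g = p ^ (f : ℕ) - 1 := by
      rw [orderOf_eq_card_of_forall_mem_zpowers hg, Nat.card_eq_fintype_card, Fintype.card_units, hf]
    rw [← ho]
    apply orderOf_dvd_of_pow_eq_one
    have h3 : (g : K) ^ p ^ (2 * i) = g := by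
      have h4 := h2 g
      rw [hτ', hτ', ← pow_mul, ← pow_add] at h4
      rw [two_mul]
      exact h4
    apply Units.ext
    have h5 : (g : K) ^ (p ^ (2 * i) - 1) * g = 1 * g := by
      rw [← pow_succ, Nat.sub_add_cancel (Nat.one_le_pow _ _ hpf.out.pos), h3, one_mul]
    rw [Units.val_pow_eq_pow_val, Units.val_one]
    exact mul_right_cancel₀ g.ne_zero h5
  have h2i := pow_sub_one_small hpf.out.two_le hi hi0 hdvd
  have hsi : s = p ^ i := by
    have h3 : s ^ 2 = (p ^ i) ^ 2 := by
      rw [hs, Nat.card_eq_fintype_card, hf, ← h2i, ← pow_mul, mul_comm]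
    exact Nat.pow_left_injective (by norm_num) h3
  have hsub : {c : K | c * τ c = 1} ⊆ (Polynomial.nthRoots (s + 1) (1 : K)).toFinset := by
    intro c hc
    have hc' : c * τ c = 1 := hc
    rw [Finset.mem_coe, Multiset.mem_toFinset, Polynomial.mem_nthRoots (by omega), hsi, pow_succ', ← hτ']
    exact hc'
  calc {c : K | c * τ c = 1}.ncard ≤ ((Polynomial.nthRoots (s + 1) (1 : K)).toFinset : Set K).ncard :=
        Set.ncard_le_ncard hsub (Finset.finite_toSet _)
    _ = (Polynomial.nthRoots (s + 1) (1 : K)).toFinset.card := Set.ncard_coe_finset _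
    _ ≤ Multiset.card (Polynomial.nthRoots (s + 1) (1 : K)) := Multiset.toFinset_card_le _
    _ ≤ s + 1 := Polynomial.card_nthRoots _ _

end Cfsg.Agent.H409.Cyc
end

-- part: H409/FprCycB
section
/-!
# Cyclic Sylow subgroups of linear groups: the commutant of an irreducible isometry
-/

set_option autoImplicit false

namespace Cfsg.Agent.H409.Cyc

open Module

section irr

variable {F : Type*} [Field F] {U : Type*} [AddCommGroup U] [Module F U]

/-- no proper invariant subspaces -/
def IrrEnd (T : Module.End F U) : Prop :=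
  ∀ N : Submodule F U, (∀ u ∈ N, T u ∈ N) → N = ⊥ ∨ N = ⊤

theorem adjoin_comm {T : Module.End F U} {c : Module.End F U} (hc : Commute c T) {a : Module.End F U}
    (ha : a ∈ Algebra.adjoin F {T}) : Commute c a := by
  induction ha using Algebra.adjoin_induction with
  | mem y hy => rw [Set.mem_singleton_iff.1 hy]; exact hc
  | algebraMap r => exact (Algebra.commutes r c).symm
  | add a b _ _ ha hb => exact ha.add_right hb
  | mul a b _ _ ha hb => exact ha.mul_right hb

theorem adjoin_comm' {T : Module.End F U} {a b : Module.End F U} (ha : a ∈ Algebra.adjoin F {T})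
    (hb : b ∈ Algebra.adjoin F {T}) : a * b = b * a := by
  have h1 : Commute a T := (adjoin_comm (Commute.refl T) ha).symm
  exact adjoin_comm h1 hb

theorem ker_eq_bot {T : Module.End F U} (hT : IrrEnd T) {c : Module.End F U} (hc : Commute c T) (h0 : c ≠ 0) :
    LinearMap.ker c = ⊥ := by
  rcases hT (LinearMap.ker c) (by
    intro u hu
    rw [LinearMap.mem_ker] at hu ⊢
    have h1 : (c * T) u = (T * c) u := by rw [hc.eq]
    change c (T u) = T (c u) at h1
    rw [h1, hu, map_zero]) with h | h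
  · exact h
  · exfalso
    apply h0
    rwa [LinearMap.ker_eq_top] at h

/-- the commutative ring `F[T]` -/
abbrev KT (T : Module.End F U) : Type _ := Algebra.adjoin F {T}

theorem KT.isField (T : Module.End F U) [Nontrivial U] [Finite (KT T)] (hT : IrrEnd T) :
    IsField (KT T) := by
  classical
  refine ⟨⟨0, 1, ?_⟩, fun a b => Subtype.ext (adjoin_comm' a.2 b.2), ?_⟩
  · intro h
    have h1 : (0 : Module.End F U) = 1 := congrArg Subtype.val h
    obtain ⟨u, hu⟩ := exists_ne (0 : U)
    apply hu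
    have h2 := congrArg (fun f : Module.End F U => f u) h1
    exact h2.symm
  · intro a ha
    have ha' : (a : Module.End F U) ≠ 0 := fun h => ha (Subtype.ext h)
    have hc : Commute (a : Module.End F U) T := (adjoin_comm (Commute.refl T) a.2).symm
    have hk := ker_eq_bot hT hc ha'
    have hinj : Function.Injective (fun b : KT T => a * b) := by
      intro b c hbc
      apply Subtype.ext
      apply LinearMap.ext
      intro u
      have h1 : (a : Module.End F U) ((b : Module.End F U) u) = (a : Module.End F U) ((c : Module.End F U) u) := by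
        have h2 := congrArg (fun f : KT T => (f : Module.End F U) u) hbc
        exact h2
      exact LinearMap.ker_eq_bot.1 hk h1
    obtain ⟨b, hb⟩ := Finite.surjective_of_injective hinj 1
    exact ⟨b, hb⟩

@[reducible] noncomputable def KT.field (T : Module.End F U) [Nontrivial U] [Finite (KT T)] (hT : IrrEnd T) : Field (KT T) :=
  (KT.isField T hT).toField

/-- evaluation at a nonzero vector -/
theorem eval_bij (T : Module.End F U) (hT : IrrEnd T) {u : U} (hu : u ≠ 0) :
    Function.Bijective (fun a : KT T => (a : Module.End F U) u) := by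
  constructor
  · intro a b hab
    by_contra hne
    have h1 : ((a : Module.End F U) - (b : Module.End F U)) ≠ 0 := by
      intro h
      exact hne (Subtype.ext (sub_eq_zero.1 h))
    have hc : Commute ((a : Module.End F U) - (b : Module.End F U)) T :=
      ((adjoin_comm (Commute.refl T) a.2).symm).sub_left ((adjoin_comm (Commute.refl T) b.2).symm)
    have hk := ker_eq_bot hT hc h1
    apply hu
    have h2 : u ∈ LinearMap.ker ((a : Module.End F U) - (b : Module.End F U)) := by
      rw [LinearMap.mem_ker, LinearMap.sub_apply, sub_eq_zero]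
      exact hab
    rw [hk] at h2
    exact h2
  · let N : Submodule F U :=
      { carrier := {v | ∃ a : KT T, (a : Module.End F U) u = v}
        add_mem' := by
          rintro _ _ ⟨a, rfl⟩ ⟨b, rfl⟩
          exact ⟨a + b, rfl⟩
        zero_mem' := ⟨0, rfl⟩
        smul_mem' := by
          rintro c _ ⟨a, rfl⟩
          exact ⟨c • a, rfl⟩ }
    have h1 := hT N (by
      rintro _ ⟨a, rfl⟩
      exact ⟨⟨T, Algebra.subset_adjoin rfl⟩ * a, rfl⟩)
    rcases h1 with h1 | h1
    · exfalso
      have h2 : u ∈ N := ⟨1, rfl⟩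
      rw [h1, Submodule.mem_bot] at h2
      exact hu h2
    · intro v
      have h2 : v ∈ N := by rw [h1]; trivial
      exact h2

theorem mem_adjoin_of_comm (T : Module.End F U) (hT : IrrEnd T) {u : U} (hu : u ≠ 0) {c : Module.End F U}
    (hc : Commute c T) : c ∈ Algebra.adjoin F {T} := by
  obtain ⟨a, ha⟩ := (eval_bij T hT hu).2 (c u)
  have h1 : (a : Module.End F U) = c := by
    apply LinearMap.ext
    intro v
    obtain ⟨b, rfl⟩ := (eval_bij T hT hu).2 v
    have h2 : (a : Module.End F U) * b = b * a := adjoin_comm' a.2 b.2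
    have h3 : c * (b : Module.End F U) = b * c := adjoin_comm hc b.2
    calc (a : Module.End F U) ((b : Module.End F U) u) = ((a : Module.End F U) * b) u := rfl
      _ = (b : Module.End F U) ((a : Module.End F U) u) := by rw [h2]; rfl
      _ = (b : Module.End F U) (c u) := by rw [show (a : Module.End F U) u = c u from ha]
      _ = (c * (b : Module.End F U)) u := by rw [h3]; rfl
      _ = c ((b : Module.End F U) u) := rfl
  rw [← h1]
  exact a.2

theorem card_KT (T : Module.End F U) (hT : IrrEnd T) {u : U} (hu : u ≠ 0) :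
    Nat.card (KT T) = Nat.card U :=
  Nat.card_congr (Equiv.ofBijective _ (eval_bij T hT hu))

end irr

section form

variable {F : Type*} [Field F] {U : Type*} [AddCommGroup U] [Module F U]

/-- a sesquilinear form, right nondegenerate -/
structure Form (B : U → U → F) (σ : F → F) : Prop where
  add_l : ∀ u v w, B (u + v) w = B u w + B v w
  add_r : ∀ u v w, B u (v + w) = B u v + B u w
  smul_l : ∀ a u v, B (a • u) v = a * B u v
  smul_r : ∀ a u v, B u (σ a • v) = a * B u v
  inv : ∀ a, σ (σ a) = a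
  nd : ∀ v, (∀ u, B u v = 0) → v = 0

variable {B : U → U → F} {σ : F → F}

theorem Form.zero_r (h : Form B σ) (u : U) : B u 0 = 0 := by
  have h1 := h.add_r u 0 0
  rw [add_zero] at h1
  exact left_eq_add.1 h1

theorem Form.neg_r (h : Form B σ) (u v : U) : B u (-v) = - B u v := by
  have h1 := h.add_r u v (-v)
  rw [add_neg_cancel, h.zero_r] at h1
  exact (neg_eq_of_add_eq_zero_right h1.symm).symm

theorem Form.ext_r (h : Form B σ) {v w : U} (hvw : ∀ u, B u v = B u w) : v = w := by
  rw [← sub_eq_zero]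
  apply h.nd
  intro u
  rw [sub_eq_add_neg, h.add_r, h.neg_r, hvw, add_neg_cancel]

/-- every element of `F[T]` has an adjoint in `F[T]` -/
theorem Form.exists_adj (h : Form B σ) {T T' : Module.End F U} (hTT : T * T' = 1)
    (hT' : T' ∈ Algebra.adjoin F {T})
    (hiso : ∀ u v, B (T u) (T v) = B u v) {a : Module.End F U} (ha : a ∈ Algebra.adjoin F {T}) :
    ∃ a' ∈ Algebra.adjoin F {T}, ∀ u v, B (a u) v = B u (a' v) := by
  induction ha using Algebra.adjoin_induction with
  | mem y hy =>
    rw [Set.mem_singleton_iff.1 hy]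
    refine ⟨T', hT', ?_⟩
    intro u v
    rw [← hiso u (T' v)]
    congr 1
    have h1 := congrArg (fun f : Module.End F U => f v) hTT
    exact h1.symm
  | algebraMap r =>
    refine ⟨algebraMap F _ (σ r), Subalgebra.algebraMap_mem _ _, ?_⟩
    intro u v
    rw [Module.algebraMap_end_apply, Module.algebraMap_end_apply, h.smul_l, h.smul_r]
  | add a b _ _ ha hb =>
    obtain ⟨a', ha', h1⟩ := ha
    obtain ⟨b', hb', h2⟩ := hb
    refine ⟨a' + b', add_mem ha' hb', ?_⟩
    intro u v
    rw [LinearMap.add_apply, LinearMap.add_apply, h.add_l, h.add_r, h1, h2]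
  | mul a b _ _ ha hb =>
    obtain ⟨a', ha', h1⟩ := ha
    obtain ⟨b', hb', h2⟩ := hb
    refine ⟨b' * a', mul_mem hb' ha', ?_⟩
    intro u v
    change B (a (b u)) v = B u (b' (a' v))
    rw [h1, h2]

/-- **Isometries commuting with an irreducible isometry `T`, `T² ≠ 1`.** -/
theorem Form.card_iso (h : Form B σ) {T : Module.End F U} [Finite U] (hT : IrrEnd T) {n : ℕ}
    (hn : 0 < n) (hTn : T ^ n = 1) (hiso : ∀ u v, B (T u) (T v) = B u v) (hT2 : T ^ 2 ≠ 1) {s : ℕ}
    (hs : s ^ 2 = Nat.card U) :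
    {c : Module.End F U | Commute c T ∧ ∀ u v, B (c u) (c v) = B u v}.ncard ≤ s + 1 := by
  classical
  have hnt : Nontrivial U := by
    by_contra hcon
    rw [not_nontrivial_iff_subsingleton] at hcon
    apply hT2
    apply LinearMap.ext
    intro u
    exact Subsingleton.elim _ _
  obtain ⟨u0, hu0⟩ := exists_ne (0 : U)
  have hfinE : Finite (Module.End F U) := Finite.of_injective (fun f : Module.End F U => (f : U → U))
    DFunLike.coe_injective
  have hfinK : Finite (KT T) := inferInstance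
  let _ : Field (KT T) := KT.field T hT
  obtain ⟨m, rfl⟩ : ∃ m, n = m + 1 := ⟨n - 1, by omega⟩
  have hTT : T * T ^ m = 1 := by rw [← pow_succ', hTn]
  have hTmem : T ∈ Algebra.adjoin F {T} := Algebra.subset_adjoin rfl
  have hex : ∀ a : KT T, ∃ a' : KT T, ∀ u v, B ((a : Module.End F U) u) v = B u ((a' : Module.End F U) v) := by
    intro a
    obtain ⟨a', ha', h1⟩ := h.exists_adj hTT (pow_mem hTmem m) hiso a.2
    exact ⟨⟨a', ha'⟩, h1⟩
  choose τ hτ using hex
  have huniq : ∀ a b : KT T, (∀ u v, B ((a : Module.End F U) u) v = B u ((b : Module.End F U) v)) → τ a = b := by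
    intro a b hab
    apply Subtype.ext
    apply LinearMap.ext
    intro v
    apply h.ext_r
    intro u
    rw [← hτ, hab]
  let τ' : KT T →+* KT T :=
    { toFun := τ
      map_one' := huniq 1 1 (fun u v => rfl)
      map_mul' := by
        intro a b
        apply huniq
        intro u v
        have h1 : (τ a * τ b : KT T) = τ b * τ a := Subtype.ext (adjoin_comm' (τ a).2 (τ b).2)
        rw [h1]
        change B ((a : Module.End F U) ((b : Module.End F U) u)) v =
          B u ((τ b : Module.End F U) ((τ a : Module.End F U) v))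
        rw [hτ, hτ]
      map_zero' := by
        apply huniq
        intro u v
        change B ((0 : Module.End F U) u) v = B u ((0 : Module.End F U) v)
        rw [LinearMap.zero_apply, LinearMap.zero_apply, h.zero_r]
        have h1 := h.add_l 0 0 v
        rw [add_zero] at h1
        exact left_eq_add.1 h1
      map_add' := by
        intro a b
        apply huniq
        intro u v
        change B ((a : Module.End F U) u + (b : Module.End F U) u) v =
          B u ((τ a : Module.End F U) v + (τ b : Module.End F U) v)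
        rw [h.add_l, h.add_r, hτ, hτ] }
  have hτT : ((τ' ⟨T, hTmem⟩ : KT T) : Module.End F U) = T ^ m := by
    have h1 : τ ⟨T, hTmem⟩ = ⟨T ^ m, pow_mem hTmem m⟩ := by
      apply huniq
      intro u v
      rw [← hiso u]
      congr 1
      have h1 := congrArg (fun f : Module.End F U => f v) hTT
      exact h1.symm
    exact congrArg Subtype.val h1
  -- `τ² = 1`
  have hττ : ∀ a : KT T, τ' (τ' a) = a := by
    have h1 : ∀ a (ha : a ∈ Algebra.adjoin F {T}), τ' (τ' ⟨a, ha⟩) = ⟨a, ha⟩ := by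
      intro a ha
      induction ha using Algebra.adjoin_induction with
      | mem y hy =>
        have hy' : y = T := hy
        subst hy'
        have h2 : (τ' ⟨y, hTmem⟩ : KT y) = ⟨y, hTmem⟩ ^ m := by
          apply Subtype.ext
          rw [hτT]; rfl
        rw [h2, map_pow, h2, ← pow_mul]
        apply Subtype.ext
        change y ^ (m * m) = y
        have h3 : y ^ (m * m) * y ^ m = y * y ^ m := by
          rw [hTT, ← pow_add]
          have h4 : m * m + m = (m + 1) * m := by ring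
          rw [h4, pow_mul, hTn, one_pow]
        have h4 : y ^ (m * m) * (y ^ m * y) = y * (y ^ m * y) := by
          rw [← mul_assoc, h3, mul_assoc]
        have h5 : y ^ m * y = 1 := by rw [← pow_succ, hTn]
        rwa [h5, mul_one, mul_one] at h4
      | algebraMap r =>
        have h2 : ∀ r : F, τ' ⟨algebraMap F _ r, Subalgebra.algebraMap_mem _ _⟩ =
            ⟨algebraMap F _ (σ r), Subalgebra.algebraMap_mem _ _⟩ := by
          intro r
          apply huniq
          intro u v
          change B (algebraMap F (Module.End F U) r u) v = B u (algebraMap F (Module.End F U) (σ r) v)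
          rw [Module.algebraMap_end_apply, Module.algebraMap_end_apply, h.smul_l, h.smul_r]
        rw [h2, h2]
        apply Subtype.ext
        change algebraMap F (Module.End F U) (σ (σ r)) = _
        rw [h.inv]
      | add a b ha hb h2 h3 =>
        have h4 : (⟨a + b, add_mem ha hb⟩ : KT T) = ⟨a, ha⟩ + ⟨b, hb⟩ := rfl
        rw [h4, map_add, map_add, h2, h3]
      | mul a b ha hb h2 h3 =>
        have h4 : (⟨a * b, mul_mem ha hb⟩ : KT T) = ⟨a, ha⟩ * ⟨b, hb⟩ := rfl
        rw [h4, map_mul, map_mul, h2, h3]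
    intro a
    exact h1 a.1 a.2
  have hτ1 : ∃ a : KT T, τ' a ≠ a := by
    refine ⟨⟨T, hTmem⟩, ?_⟩
    intro h1
    have h2 : T ^ m = T := by rw [← hτT, h1]
    apply hT2
    rw [pow_two]
    conv_lhs => rw [← h2]
    rw [h2, hTT.symm, h2]
  have hcard := norm_one_card τ' hττ hτ1 (s := s) (by rw [hs, card_KT T hT hu0])
  refine le_trans ?_ hcard
  apply Set.ncard_le_ncard_of_injOn (fun c => if hc : c ∈ Algebra.adjoin F {T} then (⟨c, hc⟩ : KT T) else 0)
    _ _ (Set.toFinite _)
  · rintro c ⟨hc, hci⟩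
    have hcK := mem_adjoin_of_comm T hT hu0 hc
    rw [dif_pos hcK]
    change (⟨c, hcK⟩ : KT T) * τ' ⟨c, hcK⟩ = 1
    have h1 : (⟨c, hcK⟩ : KT T) * τ' ⟨c, hcK⟩ = τ' ⟨c, hcK⟩ * ⟨c, hcK⟩ :=
      Subtype.ext (adjoin_comm' hcK (τ' ⟨c, hcK⟩).2)
    rw [h1]
    apply Subtype.ext
    apply LinearMap.ext
    intro v
    apply h.ext_r
    intro u
    change B u ((τ ⟨c, hcK⟩ : Module.End F U) (c v)) = B u v
    rw [← hτ]
    exact hci u v
  · rintro c ⟨hc, hci⟩ d ⟨hd, hdi⟩ hcd
    have hcK := mem_adjoin_of_comm T hT hu0 hc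
    have hdK := mem_adjoin_of_comm T hT hu0 hd
    simp only [dif_pos hcK, dif_pos hdK] at hcd
    exact congrArg Subtype.val hcd

end form

end Cfsg.Agent.H409.Cyc
end

-- part: H409/FprCycC
section
/-!
# Cyclic Sylow subgroups of linear groups: centraliser and normaliser of an element of order `p`
with an irreducible commutator space
-/

set_option autoImplicit false
set_option linter.unusedSectionVars false

universe v w

namespace Cfsg.Agent.H409.Cyc

open Module Subgroup

section

variable {F : Type*} [Field F] [Fintype F] {V : Type*} [AddCommGroup V] [Module F V] [Finite V]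
  {G : Type*} [Group G] [Finite G]

/-- `x` of prime order `p` in a linear group whose dimension is less than twice the order `e` of
`|F|` modulo `p` -/
structure Sit (ρ : G →* Module.End F V) (p e : ℕ) (x : G) : Prop where
  inj : Function.Injective ρ
  ord : orderOf x = p
  pr : p.Prime
  odd : p ≠ 2
  ch : (p : F) ≠ 0
  he : ∀ k, p ∣ Fintype.card F ^ k - 1 → e ∣ k
  dim : finrank F V < 2 * e

variable {ρ : G →* Module.End F V} {p e : ℕ} {x : G}

/-- the commutator space -/
def UU (ρ : G →* Module.End F V) (x : G) : Submodule F V := LinearMap.range (ρ x - 1)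

theorem rho_mul_apply (g h : G) (v : V) : ρ (g * h) v = ρ g (ρ h v) := by rw [map_mul]; rfl

theorem rho_inv_apply (g : G) (v : V) : ρ g⁻¹ (ρ g v) = v := by
  rw [← rho_mul_apply, inv_mul_cancel, map_one]; rfl

theorem Sit.pow_p (h : Sit ρ p e x) : (ρ x) ^ p = 1 := by
  rw [← map_pow, ← h.ord, pow_orderOf_eq_one, map_one]

theorem pow_apply_add {v w : V} (hw : ρ x w = w) (hv : ρ x v = v + w) (k : ℕ) :
    (ρ x ^ k) v = v + (k : F) • w := by
  induction k with
  | zero => simp
  | succ k ih =>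
    rw [pow_succ']
    change ρ x ((ρ x ^ k) v) = _
    rw [ih, map_add, map_smul, hv, hw, Nat.cast_succ, add_smul, one_smul]
    abel

theorem Sit.disj (h : Sit ρ p e x) {u : V} (hu : u ∈ UU ρ x) (hxu : ρ x u = u) : u = 0 := by
  obtain ⟨v, rfl⟩ := hu
  have h1 : ρ x v = v + (ρ x - 1) v := by
    rw [LinearMap.sub_apply, Module.End.one_apply]; abel
  have h2 := pow_apply_add hxu h1 p
  rw [h.pow_p, Module.End.one_apply] at h2
  have h3 : (p : F) • (ρ x - 1) v = 0 := (left_eq_add.1 h2)
  exact (smul_eq_zero.1 h3).resolve_left h.ch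

theorem mem_UU_pow (k : ℕ) (v : V) : (ρ (x ^ k)) v - v ∈ UU ρ x := by
  induction k with
  | zero => simp
  | succ k ih =>
    have h1 : ρ (x ^ (k + 1)) v - v = (ρ x - 1) (ρ (x ^ k) v) + (ρ (x ^ k) v - v) := by
      rw [pow_succ', rho_mul_apply, LinearMap.sub_apply, Module.End.one_apply]; abel
    rw [h1]
    exact add_mem ⟨_, rfl⟩ ih

/-- an element normalising `⟨x⟩` preserves the commutator space -/
theorem norm_UU {g : G} (hg : g ∈ normalizer (zpowers x : Set G)) {u : V} (hu : u ∈ UU ρ x) :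
    ρ g u ∈ UU ρ x := by
  obtain ⟨v, rfl⟩ := hu
  have h1 : g * x * g⁻¹ ∈ zpowers x := (mem_normalizer_iff.1 hg x).1 (mem_zpowers x)
  rw [← mem_powers_iff_mem_zpowers] at h1
  obtain ⟨k, hk⟩ := h1
  have hk' : x ^ k = g * x * g⁻¹ := hk
  have h2 : ρ g ((ρ x - 1) v) = ρ (x ^ k) (ρ g v) - ρ g v := by
    rw [hk', rho_mul_apply, rho_mul_apply, rho_inv_apply, LinearMap.sub_apply, map_sub]
    rfl
  rw [h2]
  exact mem_UU_pow k _

/-- the restriction to the commutator space -/
noncomputable def res (ρ : G →* Module.End F V) (x : G) (g : G) : Module.End F (UU ρ x) :=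
  open Classical in
  if hg : g ∈ normalizer (zpowers x : Set G) then (ρ g).restrict (fun _ hu => norm_UU hg hu) else 0

theorem res_apply {g : G} (hg : g ∈ normalizer (zpowers x : Set G)) (u : UU ρ x) :
    ((res ρ x g u : UU ρ x) : V) = ρ g u := by
  rw [res, dif_pos hg]; rfl

theorem x_mem : x ∈ normalizer (zpowers x : Set G) := le_normalizer (mem_zpowers x)

theorem res_mul {g k : G} (hg : g ∈ normalizer (zpowers x : Set G))
    (hk : k ∈ normalizer (zpowers x : Set G)) : res ρ x (g * k) = res ρ x g * res ρ x k := by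
  apply LinearMap.ext
  intro u
  apply Subtype.ext
  rw [res_apply (mul_mem hg hk), rho_mul_apply]
  change _ = ((res ρ x g (res ρ x k u) : UU ρ x) : V)
  rw [res_apply hg, res_apply hk]

theorem res_one : res ρ x 1 = 1 := by
  apply LinearMap.ext
  intro u
  apply Subtype.ext
  rw [res_apply (one_mem _), map_one]; rfl

theorem res_pow {g : G} (hg : g ∈ normalizer (zpowers x : Set G)) (k : ℕ) :
    res ρ x (g ^ k) = res ρ x g ^ k := by
  induction k with
  | zero => rw [pow_zero, pow_zero, res_one]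
  | succ k ih => rw [pow_succ, pow_succ, res_mul (pow_mem hg k) hg, ih]

/-- an element of `⟨x⟩` trivial on the commutator space is trivial -/
theorem Sit.faithful (h : Sit ρ p e x) {y : G} (hy : y ∈ zpowers x) (hr : res ρ x y = 1) : y = 1 := by
  rw [← mem_powers_iff_mem_zpowers] at hy
  obtain ⟨k, hk⟩ := hy
  have hk' : x ^ k = y := hk
  have hyN : y ∈ normalizer (zpowers x : Set G) := hk' ▸ pow_mem x_mem k
  apply h.inj
  rw [map_one]
  apply LinearMap.ext
  intro v
  have h1 : ρ y v - v ∈ UU ρ x := hk' ▸ mem_UU_pow k v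
  have h2 : ρ y (ρ y v - v) = ρ y v - v := by
    have h3 := congrArg (fun f : Module.End F (UU ρ x) => ((f ⟨_, h1⟩ : UU ρ x) : V)) hr
    simp only [res_apply hyN] at h3
    exact h3
  -- `w = ρ y v - v` is fixed by `y`; `y ^ p = 1`
  have h4 : ∀ j : ℕ, ρ (y ^ j) v = v + (j : F) • (ρ y v - v) := by
    intro j
    induction j with
    | zero => simp
    | succ j ih =>
      rw [pow_succ', rho_mul_apply, ih, map_add, map_smul, h2, Nat.cast_succ, add_smul, one_smul]
      abel
  have h5 := h4 p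
  have h6 : y ^ p = 1 := by
    rw [← hk', ← pow_mul, mul_comm, pow_mul, ← h.ord, pow_orderOf_eq_one, one_pow]
  rw [h6, map_one, Module.End.one_apply] at h5
  have h7 : (p : F) • (ρ y v - v) = 0 := left_eq_add.1 h5
  have h8 := (smul_eq_zero.1 h7).resolve_left h.ch
  rw [sub_eq_zero] at h8
  exact h8

theorem Sit.x_ne (h : Sit ρ p e x) : x ≠ 1 := by
  rintro rfl
  have := h.ord
  rw [orderOf_one] at this
  exact h.pr.one_lt.ne this

/-- the cardinality of an invariant subspace of the commutator space -/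
theorem Sit.dvd (h : Sit ρ p e x) (N : Submodule F (UU ρ x)) (hN : ∀ u ∈ N, res ρ x x u ∈ N) :
    e ∣ finrank F N := by
  classical
  apply h.he
  have hp : Fact p.Prime := ⟨h.pr⟩
  have : Fintype N := Fintype.ofFinite N
  let f : Function.End N := fun u => ⟨res ρ x x u, hN u u.2⟩
  have hf : ∀ (k : ℕ) (u : N), (((f ^ k) u : N) : UU ρ x) = (res ρ x x ^ k) u := by
    intro k
    induction k with
    | zero => intro u; rfl
    | succ k ih =>
      intro u
      have h1 : (f ^ (k + 1)) u = f ((f ^ k) u) := by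
        rw [pow_succ']; rfl
      have h2 : (res ρ x x ^ (k + 1)) (u : UU ρ x) = res ρ x x ((res ρ x x ^ k) (u : UU ρ x)) := by
        rw [pow_succ']; rfl
      rw [h1, h2, ← ih]
  have hf1 : f ^ p ^ 1 = 1 := by
    funext u
    apply Subtype.ext
    rw [hf, pow_one, ← res_pow x_mem, ← h.ord, pow_orderOf_eq_one, res_one]
    rfl
  have h1 := Equiv.Perm.card_fixedPoints_modEq hf1
  have h2 : Fintype.card f.fixedPoints = 1 := by
    rw [Fintype.card_eq_one_iff]
    refine ⟨⟨0, ?_⟩, ?_⟩
    · change f 0 = 0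
      apply Subtype.ext
      change res ρ x x ((0 : N) : UU ρ x) = _
      rw [Submodule.coe_zero, map_zero]
    · rintro ⟨u, hu⟩
      apply Subtype.ext
      apply Subtype.ext
      apply Subtype.ext
      have hu' : f u = u := hu
      have h3 : res ρ x x (u : UU ρ x) = u := congrArg Subtype.val hu'
      have h4 : ρ x ((u : UU ρ x) : V) = ((u : UU ρ x) : V) := by
        rw [← res_apply x_mem, h3]
      exact h.disj (u : UU ρ x).2 h4
  rw [h2, Module.card_eq_pow_finrank (K := F)] at h1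
  have h3 : 1 ≤ Fintype.card F ^ finrank F N := Nat.one_le_pow _ _ Fintype.card_pos
  exact (Nat.modEq_iff_dvd' h3).1 h1.symm

theorem Sit.UU_ne (h : Sit ρ p e x) : UU ρ x ≠ ⊥ := by
  intro hU
  apply h.x_ne
  apply h.inj
  rw [map_one]
  have h1 : ρ x - 1 = 0 := by
    rw [← LinearMap.range_eq_bot]; exact hU
  exact sub_eq_zero.1 h1

theorem Sit.finrank_UU (h : Sit ρ p e x) : finrank F (UU ρ x) = e := by
  have hfd : Module.Finite F V := Module.Finite.of_finite
  have h1 := h.dvd ⊤ (fun _ _ => Submodule.mem_top)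
  rw [finrank_top] at h1
  have h2 : finrank F (UU ρ x) ≤ finrank F V := Submodule.finrank_le _
  have h3 : 0 < finrank F (UU ρ x) := by
    rw [Module.finrank_pos_iff, Submodule.nontrivial_iff_ne_bot]
    exact h.UU_ne
  have h4 := h.dim
  obtain ⟨c, hc⟩ := h1
  have hc0 : c ≠ 0 := by rintro rfl; omega
  have hc1 : c < 2 := by
    by_contra hcon
    push Not at hcon
    have : e * 2 ≤ e * c := Nat.mul_le_mul_left _ hcon
    omega
  have hc2 : c = 1 := by omega
  rw [hc, hc2, mul_one]

theorem Sit.irr (h : Sit ρ p e x) : IrrEnd (res ρ x x) := by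
  have hfd : Module.Finite F V := Module.Finite.of_finite
  intro N hN
  obtain ⟨c, hc⟩ := h.dvd N hN
  have h2 : finrank F N ≤ finrank F (UU ρ x) := Submodule.finrank_le _
  rw [h.finrank_UU] at h2
  have he : 0 < e := by
    have := h.dim
    omega
  rcases Nat.eq_zero_or_pos c with h0 | h0
  · left
    rw [h0, mul_zero] at hc
    exact Submodule.finrank_eq_zero.1 hc
  · right
    apply Submodule.eq_top_of_finrank_eq
    rw [h.finrank_UU]
    have : e * 1 ≤ e * c := Nat.mul_le_mul_left _ h0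
    omega

theorem Sit.card_UU (h : Sit ρ p e x) : Nat.card (UU ρ x) = Fintype.card F ^ e := by
  have hfd : Module.Finite F V := Module.Finite.of_finite
  have : Fintype (UU ρ x) := Fintype.ofFinite _
  rw [Nat.card_eq_fintype_card, Module.card_eq_pow_finrank (K := F), h.finrank_UU]

theorem cent_le_norm : centralizer ({x} : Set G) ≤ normalizer (zpowers x : Set G) := by
  intro g hg
  rw [mem_normalizer_iff_map_conj_eq]
  have hg' : g * x = x * g := mem_centralizer_singleton_iff.1 hg
  apply eq_of_le_of_card_ge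
  · rw [map_le_iff_le_comap, zpowers_le]
    change g * x * g⁻¹ ∈ zpowers x
    rw [hg']
    have h3 : x * g * g⁻¹ = x := by group
    rw [h3]
    exact mem_zpowers x
  · rw [card_map_of_injective (MulAut.conj g).injective]

theorem res_comm {g : G} (hg : g ∈ centralizer ({x} : Set G)) : Commute (res ρ x g) (res ρ x x) := by
  have h1 : g * x = x * g := mem_centralizer_singleton_iff.1 hg
  change res ρ x g * res ρ x x = res ρ x x * res ρ x g
  rw [← res_mul (cent_le_norm hg) x_mem, h1, res_mul x_mem (cent_le_norm hg)]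

/-- a form on `V` restricts to the commutator space -/
theorem Sit.form (h : Sit ρ p e x) {B : V → V → F} {σ : F → F} (hB : Form B σ)
    (hinv : ∀ g u v, B (ρ g u) (ρ g v) = B u v) :
    Form (fun u v : UU ρ x => B u v) σ where
  add_l u v w := hB.add_l u v w
  add_r u v w := hB.add_r u v w
  smul_l a u v := hB.smul_l a u v
  smul_r a u v := hB.smul_r a u v
  inv := hB.inv
  nd := by
    intro v hv
    apply Subtype.ext
    apply hB.nd
    intro u
    -- `u = u₁ + w` with `w` fixed by `x`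
    have hfd : Module.Finite F V := Module.Finite.of_finite
    have hdisj : UU ρ x ⊓ LinearMap.ker (ρ x - 1) = ⊥ := by
      rw [eq_bot_iff]
      rintro w ⟨hw1, hw2⟩
      rw [SetLike.mem_coe, LinearMap.mem_ker, LinearMap.sub_apply, Module.End.one_apply, sub_eq_zero] at hw2
      rw [Submodule.mem_bot]
      exact h.disj hw1 hw2
    have hsup : UU ρ x ⊔ LinearMap.ker (ρ x - 1) = ⊤ := by
      apply Submodule.eq_top_of_finrank_eq
      have h1 := Submodule.finrank_sup_add_finrank_inf_eq (UU ρ x) (LinearMap.ker (ρ x - 1))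
      rw [hdisj, finrank_bot, add_zero] at h1
      rw [h1]
      exact LinearMap.finrank_range_add_finrank_ker (ρ x - 1)
    have hu : u ∈ UU ρ x ⊔ LinearMap.ker (ρ x - 1) := by rw [hsup]; trivial
    obtain ⟨u1, hu1, w, hw, rfl⟩ := Submodule.mem_sup.1 hu
    rw [hB.add_l]
    have h2 : B u1 v = 0 := hv ⟨u1, hu1⟩
    have hw' : ρ x w = w := by
      rwa [LinearMap.mem_ker, LinearMap.sub_apply, Module.End.one_apply, sub_eq_zero] at hw
    have h3 : B w v = 0 := by
      obtain ⟨t, ht⟩ := v.2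
      rw [← ht, LinearMap.sub_apply, Module.End.one_apply, sub_eq_add_neg, hB.add_r, hB.neg_r]
      conv_lhs => enter [1, 1]; rw [← hw']
      rw [hinv, add_neg_cancel]
    rw [h2, h3, add_zero]

/-- **The centraliser of `x` in an isometry group.** -/
theorem Sit.card_centralizer_le (h : Sit ρ p e x) {B : V → V → F} {σ : F → F} (hB : Form B σ)
    (hinv : ∀ g u v, B (ρ g u) (ρ g v) = B u v) {s k : ℕ} (hs : s ^ 2 = Fintype.card F ^ e)
    (hk : {c : G | c ∈ centralizer ({x} : Set G) ∧ ∀ u ∈ UU ρ x, ρ c u = u}.ncard ≤ k) :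
    Nat.card (centralizer ({x} : Set G)) ≤ (s + 1) * k := by
  classical
  have hfinE : Finite (Module.End F (UU ρ x)) := Finite.of_injective
    (fun f : Module.End F (UU ρ x) => (f : UU ρ x → UU ρ x)) DFunLike.coe_injective
  have h1 := (h.form hB hinv).card_iso h.irr (n := p) h.pr.pos
    (by rw [← res_pow x_mem, ← h.ord, pow_orderOf_eq_one, res_one])
    (by
      intro u v
      simp only [res_apply x_mem]
      exact hinv x u v)
    (by
      intro h2
      rw [← res_pow x_mem] at h2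
      have h3 := h.faithful (pow_mem (mem_zpowers x) 2) h2
      have h4 := orderOf_dvd_of_pow_eq_one h3
      rw [h.ord] at h4
      exact h.odd ((Nat.prime_dvd_prime_iff_eq h.pr Nat.prime_two).1 h4))
    (s := s) (by rw [hs, h.card_UU])
  have : Fintype G := Fintype.ofFinite G
  let C : Finset G := Finset.univ.filter (fun g => g ∈ centralizer ({x} : Set G))
  have hC : Nat.card (centralizer ({x} : Set G)) = C.card := by
    rw [Nat.card_eq_fintype_card, Fintype.card_subtype]
  rw [hC]
  have hfib : ∀ b ∈ C.image (res ρ x), (C.filter (fun g => res ρ x g = b)).card ≤ k := by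
    intro b hb
    obtain ⟨g0, hg0, rfl⟩ := Finset.mem_image.1 hb
    have hg0' : g0 ∈ centralizer ({x} : Set G) := by simpa [C] using hg0
    refine le_trans ?_ hk
    rw [← Set.ncard_coe_finset]
    apply Set.ncard_le_ncard_of_injOn (fun g => g0⁻¹ * g) _ _ (Set.toFinite _)
    · intro g hg
      simp only [C, Finset.coe_filter, Finset.mem_filter, Finset.mem_univ, true_and,
        Set.mem_ofPred_eq] at hg
      refine ⟨mul_mem (inv_mem hg0') hg.1, ?_⟩
      intro u hu
      have h2 := congrArg (fun f : Module.End F (UU ρ x) => ((f ⟨u, hu⟩ : UU ρ x) : V)) hg.2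
      simp only [res_apply (cent_le_norm hg.1), res_apply (cent_le_norm hg0')] at h2
      rw [rho_mul_apply, h2, rho_inv_apply]
    · intro a _ b _ hab
      exact mul_left_cancel hab
  have h2 := Finset.card_le_mul_card_image C k hfib
  refine h2.trans ?_
  rw [mul_comm]
  apply Nat.mul_le_mul_right
  refine le_trans ?_ h1
  rw [← Set.ncard_coe_finset]
  apply Set.ncard_le_ncard _ (Set.toFinite _)
  intro b hb
  rw [Finset.mem_coe, Finset.mem_image] at hb
  obtain ⟨g, hg, rfl⟩ := hb
  have hg' : g ∈ centralizer ({x} : Set G) := by simpa [C] using hg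
  refine ⟨res_comm hg', ?_⟩
  intro u v
  simp only [res_apply (cent_le_norm hg')]
  exact hinv g u v

theorem exists_field {F : Type v} [Field F] {U : Type w} [AddCommGroup U] [Module F U] [Nontrivial U] (T : Module.End F U)
    [Finite (KT T)] (hT : IrrEnd T) : ∃ (K : Type w) (_ : Field K) (_ : Algebra F K)
      (φ : K →ₐ[F] Module.End F U), Function.Injective φ ∧ ∀ a ∈ Algebra.adjoin F {T}, ∃ k, φ k = a := by
  let _ : Field (KT T) := KT.field T hT
  refine ⟨KT T, KT.field T hT, (inferInstance : Algebra F (KT T)), (Algebra.adjoin F {T}).val,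
    fun a b h => Subtype.ext h, ?_⟩
  intro a ha
  exact ⟨⟨a, ha⟩, rfl⟩

theorem card_roots_le {K : Type*} [Field K] [Algebra F K] {χ : Polynomial F} (hχ : χ.Monic) (S : Finset K)
    (hS : ∀ b ∈ S, Polynomial.aeval b χ = 0) : S.card ≤ χ.natDegree := by
  classical
  have h0 : χ.map (algebraMap F K) ≠ 0 := (hχ.map _).ne_zero
  have h1 : S ⊆ (χ.map (algebraMap F K)).roots.toFinset := by
    intro b hb
    rw [Multiset.mem_toFinset, Polynomial.mem_roots h0, Polynomial.IsRoot.def,
      Polynomial.eval_map_algebraMap]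
    exact hS b hb
  refine (Finset.card_le_card h1).trans ((Multiset.toFinset_card_le _).trans
    ((Polynomial.card_roots' _).trans ?_))
  rw [Polynomial.natDegree_map]

/-- the conjugates of `x` in `⟨x⟩` -/
theorem Sit.card_normalizer_le (h : Sit ρ p e x) :
    Nat.card (normalizer (zpowers x : Set G)) ≤ e * Nat.card (centralizer ({x} : Set G)) := by
  classical
  have hfd : Module.Finite F V := Module.Finite.of_finite
  have hnt : Nontrivial (UU ρ x) := (Submodule.nontrivial_iff_ne_bot).2 h.UU_ne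
  obtain ⟨u0, hu0⟩ := exists_ne (0 : UU ρ x)
  have hfinE : Finite (Module.End F (UU ρ x)) := Finite.of_injective
    (fun f : Module.End F (UU ρ x) => (f : UU ρ x → UU ρ x)) DFunLike.coe_injective
  have hfinK : Finite (KT (res ρ x x)) := inferInstance
  obtain ⟨K, iK, iA, φ, hφ, hφs⟩ := exists_field (res ρ x x) h.irr
  -- the normaliser acts on the conjugates of `x`
  let N := normalizer (zpowers x : Set G)
  have : Fintype G := Fintype.ofFinite G
  let NN : Finset G := Finset.univ.filter (fun g => g ∈ N)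
  have hNN : Nat.card N = NN.card := by
    rw [Nat.card_eq_fintype_card, Fintype.card_subtype]
  change Nat.card N ≤ _
  rw [hNN]
  have hfib : ∀ b ∈ NN.image (fun g => g * x * g⁻¹), (NN.filter (fun g => g * x * g⁻¹ = b)).card ≤
      Nat.card (centralizer ({x} : Set G)) := by
    intro b hb
    obtain ⟨g0, hg0, rfl⟩ := Finset.mem_image.1 hb
    rw [Nat.card_eq_fintype_card, Fintype.card_subtype]
    apply Finset.card_le_card_of_injOn (fun g => g0⁻¹ * g)
    · intro g hg
      simp only [NN, Finset.coe_filter, Finset.mem_filter, Finset.mem_univ, true_and,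
        Set.mem_ofPred_eq] at hg ⊢
      rw [mem_centralizer_singleton_iff]
      have h2 : g * x * g⁻¹ = g0 * x * g0⁻¹ := hg.2
      have h3 : g * x = g0 * x * g0⁻¹ * g := by rw [← h2]; group
      calc g0⁻¹ * g * x = g0⁻¹ * (g * x) := by group
        _ = x * (g0⁻¹ * g) := by rw [h3]; group
    · intro a _ b _ hab
      exact mul_left_cancel hab
  have h2 := Finset.card_le_mul_card_image NN _ hfib
  refine h2.trans ?_
  rw [mul_comm]
  apply Nat.mul_le_mul_right
  -- the conjugates are roots of the characteristic polynomial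
  let χ := (res ρ x x).charpoly
  have hmem : ∀ b ∈ NN.image (fun g => g * x * g⁻¹), b ∈ zpowers x ∧
      Polynomial.aeval (res ρ x b) χ = 0 := by
    intro b hb
    obtain ⟨g, hg, rfl⟩ := Finset.mem_image.1 hb
    have hg' : g ∈ N := by simpa [NN] using hg
    refine ⟨(mem_normalizer_iff.1 hg' x).1 (mem_zpowers x), ?_⟩
    have hginv : g⁻¹ ∈ N := inv_mem hg'
    have e1 : res ρ x g * res ρ x g⁻¹ = 1 := by rw [← res_mul hg' hginv, mul_inv_cancel, res_one]
    have e2 : res ρ x g⁻¹ * res ρ x g = 1 := by rw [← res_mul hginv hg', inv_mul_cancel, res_one]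
    have h4 : res ρ x (g * x * g⁻¹) = res ρ x g * res ρ x x * res ρ x g⁻¹ := by
      rw [res_mul (mul_mem hg' x_mem) hginv, res_mul hg' x_mem]
    have h5 : ∀ f : Polynomial F, Polynomial.aeval (res ρ x g * res ρ x x * res ρ x g⁻¹) f =
        res ρ x g * Polynomial.aeval (res ρ x x) f * res ρ x g⁻¹ := by
      intro f
      induction f using Polynomial.induction_on' with
      | add a b ha hb => rw [map_add, map_add, ha, hb, mul_add, add_mul]
      | monomial n a =>
        rw [Polynomial.aeval_monomial, Polynomial.aeval_monomial]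
        have h6 : (res ρ x g * res ρ x x * res ρ x g⁻¹) ^ n = res ρ x g * res ρ x x ^ n * res ρ x g⁻¹ := by
          induction n with
          | zero => rw [pow_zero, pow_zero, mul_one, e1]
          | succ n ih =>
            rw [pow_succ, ih, pow_succ]
            calc res ρ x g * res ρ x x ^ n * res ρ x g⁻¹ * (res ρ x g * res ρ x x * res ρ x g⁻¹) =
                res ρ x g * res ρ x x ^ n * (res ρ x g⁻¹ * res ρ x g) * res ρ x x * res ρ x g⁻¹ := by
                  noncomm_ring
              _ = _ := by rw [e2]; noncomm_ring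
        rw [h6]
        have h7 : algebraMap F (Module.End F (UU ρ x)) a * (res ρ x g * res ρ x x ^ n * res ρ x g⁻¹) =
            res ρ x g * (algebraMap F (Module.End F (UU ρ x)) a * res ρ x x ^ n) * res ρ x g⁻¹ := by
          rw [← mul_assoc, ← mul_assoc, ← mul_assoc, Algebra.commutes a (res ρ x g)]
        exact h7
    rw [h4, h5, LinearMap.aeval_self_charpoly, mul_zero, zero_mul]
  have hK : ∀ b ∈ zpowers x, res ρ x b ∈ Algebra.adjoin F {res ρ x x} := by
    intro b hb
    rw [← mem_powers_iff_mem_zpowers] at hb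
    obtain ⟨j, hj⟩ := hb
    have hj' : x ^ j = b := hj
    rw [← hj', res_pow x_mem]
    exact pow_mem (Algebra.self_mem_adjoin_singleton F _) j
  have hψ : ∀ b : G, ∃ k : K, b ∈ zpowers x → φ k = res ρ x b := by
    intro b
    by_cases hb : b ∈ zpowers x
    · obtain ⟨k, hk⟩ := hφs _ (hK b hb)
      exact ⟨k, fun _ => hk⟩
    · exact ⟨0, fun h => absurd h hb⟩
  choose ψ hψ using hψ
  have hinj : Set.InjOn ψ (NN.image (fun g => g * x * g⁻¹) : Finset G) := by
    intro a ha b hb hab
    obtain ⟨ha1, -⟩ := hmem a ha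
    obtain ⟨hb1, -⟩ := hmem b hb
    have h4 : res ρ x a = res ρ x b := by rw [← hψ a ha1, ← hψ b hb1, hab]
    have haN : a ∈ N := (zpowers_le.2 x_mem : zpowers x ≤ N) ha1
    have hbN : b ∈ N := (zpowers_le.2 x_mem : zpowers x ≤ N) hb1
    have h5 : res ρ x (a⁻¹ * b) = 1 := by
      rw [res_mul (inv_mem haN) hbN, ← h4, ← res_mul (inv_mem haN) haN, inv_mul_cancel, res_one]
    have h6 := h.faithful (mul_mem (inv_mem ha1) hb1) h5
    exact (inv_mul_eq_one.1 h6)
  rw [← Finset.card_image_of_injOn hinj]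
  have h3 := card_roots_le (K := K) (χ := χ) (LinearMap.charpoly_monic _)
    ((NN.image (fun g => g * x * g⁻¹)).image ψ) (by
      intro k hk
      obtain ⟨b, hb, rfl⟩ := Finset.mem_image.1 hk
      obtain ⟨hb1, hb2⟩ := hmem b hb
      apply hφ
      rw [map_zero, ← hb2, ← hψ b hb1, Polynomial.aeval_algHom_apply])
  rwa [LinearMap.charpoly_natDegree, h.finrank_UU] at h3

end

end Cfsg.Agent.H409.Cyc
end

-- part: H409/FprCycD
section
/-!
# Cyclic Sylow subgroups: the row from a bound of the normaliser and the minimal index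
-/

set_option autoImplicit false
set_option linter.unusedSectionVars false

namespace Cfsg.Agent.H409

open MulAction Subgroup

/-- The number of fixed points of a cyclic Sylow subgroup. -/
theorem fix_dvd_cyc {G Ω : Type*} [Group G] [Finite G] [MulAction G Ω] [Finite Ω] [IsPretransitive G Ω]
    {p : ℕ} [hp : Fact p.Prime] (P : Sylow p G) {y : G} (hy : zpowers y = (P : Subgroup G))
    (h0 : Nat.card (fixedBy Ω y) ≠ 0) :
    Nat.card P * Nat.card (fixedBy Ω y) ∣ Nat.card (normalizer (P : Set G)) := by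
  classical
  have : Nonempty (fixedBy Ω y) := (Nat.card_ne_zero.1 h0).1
  obtain ⟨ω, hω⟩ := this
  have hω' : y • ω = ω := hω
  let N := normalizer (P : Set G)
  have hPN : (P : Subgroup G) ≤ N := le_normalizer
  have hpow : ∀ {a : Ω}, y • a = a → (P : Subgroup G) ≤ stabilizer G a := by
    intro a ha
    rw [← hy, zpowers_le]; exact ha
  have horb : orbit N ω = fixedBy Ω y := by
    ext a
    constructor
    · rintro ⟨⟨n, hn⟩, rfl⟩
      change y • n • ω = n • ω
      rw [← inv_smul_eq_iff, ← mul_smul, ← mul_smul]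
      have hyP : y ∈ (P : Subgroup G) := by rw [← hy]; exact mem_zpowers y
      have h1 := (mem_normalizer_iff.1 (inv_mem hn) y).1 hyP
      rw [inv_inv] at h1
      exact hpow hω' h1
    · intro ha
      have ha' : y • a = a := ha
      obtain ⟨g, hg⟩ := exists_smul_eq G ω a
      have h1 : (P : Subgroup G) ≤ stabilizer G a := hpow ha'
      have h2 : ((g • P : Sylow p G) : Subgroup G) ≤ stabilizer G a := by
        rw [Sylow.smul_def]
        rintro _ ⟨z, hz, rfl⟩
        change (g * z * g⁻¹) • a = a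
        rw [mul_smul, mul_smul, ← hg, inv_smul_smul]
        have h3 : z • ω = ω := hpow hω' hz
        rw [h3]
      obtain ⟨s, hs⟩ := exists_smul_eq (stabilizer G a) ((g • P).subtype h2) (P.subtype h1)
      have hmem : ((s : G) * g) ∈ N := by
        have h3 : ∀ z ∈ (P : Subgroup G), (s : G) * g * z * ((s : G) * g)⁻¹ ∈ (P : Subgroup G) := by
          intro z hz
          have hz2 : g * z * g⁻¹ ∈ ((g • P : Sylow p G) : Subgroup G) := by
            rw [Sylow.smul_def]; exact ⟨z, hz, rfl⟩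
          have h4 : s * ⟨g * z * g⁻¹, h2 hz2⟩ * s⁻¹ ∈ ((P.subtype h1 : Sylow p (stabilizer G a)) :
              Subgroup (stabilizer G a)) := by
            rw [← hs, Sylow.smul_def]
            exact ⟨⟨g * z * g⁻¹, h2 hz2⟩, hz2, rfl⟩
          have h5 : (s : G) * (g * z * g⁻¹) * (s : G)⁻¹ ∈ (P : Subgroup G) := h4
          have h6 : (s : G) * g * z * ((s : G) * g)⁻¹ = (s : G) * (g * z * g⁻¹) * (s : G)⁻¹ := by group
          rw [h6]; exact h5
        rw [show N = normalizer ((P : Subgroup G) : Set G) from rfl, mem_normalizer_iff_map_conj_eq]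
        apply eq_of_le_of_card_ge
        · rintro _ ⟨z, hz, rfl⟩
          exact h3 z hz
        · rw [card_map_of_injective (MulAut.conj _).injective]
      refine ⟨⟨(s : G) * g, hmem⟩, ?_⟩
      change ((s : G) * g) • ω = a
      rw [mul_smul, hg]
      exact s.2
  have h1 : Nat.card (fixedBy Ω y) = (stabilizer N ω).index := by
    rw [index_stabilizer, horb, Nat.card_coe_set_eq]
  have h2 : (P : Subgroup G).subgroupOf N ≤ stabilizer N ω := by
    rintro ⟨z, hz⟩ hyz
    exact hpow hω' hyz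
  have h3 : Nat.card ((P : Subgroup G).subgroupOf N) = Nat.card P :=
    Nat.card_congr (subgroupOfEquivOfLe (H := (P : Subgroup G)) (K := N) hPN).toEquiv
  have h4 := (stabilizer N ω).card_mul_index
  rw [h1]
  change _ ∣ Nat.card N
  rw [← h4]
  exact Nat.mul_dvd_mul_right (h3 ▸ card_dvd_of_le h2) _

/-- **Cyclic Sylow subgroups**, arithmetic form. -/
theorem FprRow.of_cyc {S : Type*} [Group S] [Finite S] {p : ℕ} [hp : Fact p.Prime] (P : Sylow p S) {y : S}
    (hy : zpowers y = (P : Subgroup S))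
    (h : ∀ H : Subgroup S, H ≠ ⊤ → ∀ f : ℕ, f ≠ 0 → Nat.card P * f ∣ Nat.card (normalizer (P : Set S)) →
      H.index ≡ f [MOD p] → (p + 1) * f ≤ H.index) : FprRow (p + 1) 1 p S := by
  intro H hH
  have hyP : y ∈ (P : Subgroup S) := by rw [← hy]; exact mem_zpowers y
  refine ⟨y, ?_, ?_⟩
  · obtain ⟨k, hk⟩ := (IsPGroup.iff_orderOf).1 P.isPGroup' ⟨y, hyP⟩
    exact ⟨k, by rw [← hk, Subgroup.orderOf_mk]⟩
  · rw [one_mul]
    by_cases h0 : Nat.card (fixedBy (S ⧸ H) y) = 0
    · rw [h0, mul_zero]; exact Nat.zero_le _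
    · refine h H hH _ h0 (fix_dvd_cyc P hy h0) ?_
      have h2 := P.isPGroup'.card_modEq_card_fixedPoints (S ⧸ H)
      have h3 : fixedPoints P (S ⧸ H) = fixedBy (S ⧸ H) y := by
        ext ω
        constructor
        · intro h
          exact h ⟨y, hyP⟩
        · rintro h ⟨z, hz⟩
          have h4 : zpowers y ≤ stabilizer S ω := by
            rw [zpowers_le]; exact h
          exact h4 (by rw [hy]; exact hz)
      rwa [h3] at h2

/-- **Cyclic Sylow subgroups**: a bound for the normaliser against the minimal index. -/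
theorem FprRow.of_cyc_le {S : Type*} [Group S] [Finite S] {p : ℕ} [hp : Fact p.Prime] (P : Sylow p S) {y : S}
    (hy : zpowers y = (P : Subgroup S)) {L : ℕ} (hL : ∀ H : Subgroup S, H ≠ ⊤ → L ≤ H.index)
    (h : (p + 1) * Nat.card (normalizer (P : Set S)) ≤ Nat.card P * L) : FprRow (p + 1) 1 p S := by
  apply FprRow.of_cyc P hy
  intro H hH f hf hdvd _
  have h1 := Nat.le_of_dvd Nat.card_pos hdvd
  have h2 : 0 < Nat.card P := Nat.card_pos
  apply Nat.le_of_mul_le_mul_left _ h2
  calc Nat.card P * ((p + 1) * f) = (p + 1) * (Nat.card P * f) := by ring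
    _ ≤ (p + 1) * Nat.card (normalizer (P : Set S)) := Nat.mul_le_mul_left _ h1
    _ ≤ Nat.card P * L := h
    _ ≤ Nat.card P * H.index := Nat.mul_le_mul_left _ (hL H hH)

namespace Cyc

open Module

section

variable {F : Type*} [Field F] [Fintype F] {V : Type*} [AddCommGroup V] [Module F V] [Finite V]
  {G : Type*} [Group G] [Finite G] {ρ : G →* Module.End F V} {p e : ℕ}

/-- elements of order `p` commuting with each other -/
theorem Sit.trivial_of_comm {x y : G} (h : Sit ρ p e x) (hy : orderOf y = p) (hxy : y * x = x * y)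
    (hres : res ρ x y = 1) : False := by
  have hfd : Module.Finite F V := Module.Finite.of_finite
  have h' : Sit ρ p e y := { h with ord := hy }
  have hyN : y ∈ normalizer (zpowers x : Set G) := cent_le_norm (mem_centralizer_singleton_iff.2 hxy)
  have hfix : ∀ u ∈ UU ρ x, ρ y u = u := by
    intro u hu
    have h2 := congrArg (fun f : Module.End F (UU ρ x) => ((f ⟨u, hu⟩ : UU ρ x) : V)) hres
    simp only [res_apply hyN] at h2
    exact h2
  have hdisj : UU ρ x ⊓ UU ρ y = ⊥ := by
    rw [eq_bot_iff]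
    rintro u ⟨hu1, hu2⟩
    rw [Submodule.mem_bot]
    exact h'.disj hu2 (hfix u hu1)
  have h1 := Submodule.finrank_sup_add_finrank_inf_eq (UU ρ x) (UU ρ y)
  rw [hdisj, finrank_bot, add_zero, h.finrank_UU, h'.finrank_UU] at h1
  have h2 : finrank F (UU ρ x ⊔ UU ρ y : Submodule F V) ≤ finrank F V := Submodule.finrank_le _
  have h3 := h.dim
  omega

/-- The Sylow `p`-subgroup is cyclic. -/
theorem Sit.cyclic [hp : Fact p.Prime] {x : G} (h : Sit ρ p e x) (P : Sylow p G)
    (hxP : ∀ y ∈ (P : Subgroup G), y * x = x * y) : IsCyclic (P : Subgroup G) := by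
  classical
  have hnt : Nontrivial (UU ρ x) := (Submodule.nontrivial_iff_ne_bot).2 h.UU_ne
  obtain ⟨u0, hu0⟩ := exists_ne (0 : UU ρ x)
  have hfinE : Finite (Module.End F (UU ρ x)) := Finite.of_injective
    (fun f : Module.End F (UU ρ x) => (f : UU ρ x → UU ρ x)) DFunLike.coe_injective
  have hfinK : Finite (KT (res ρ x x)) := inferInstance
  obtain ⟨K, iK, iA, φ, hφ, hφs⟩ := exists_field (res ρ x x) h.irr
  have hC : ∀ y ∈ (P : Subgroup G), y ∈ centralizer ({x} : Set G) := fun y hy =>
    mem_centralizer_singleton_iff.2 (hxP y hy)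
  have hex : ∀ y : (P : Subgroup G), ∃ k : K, φ k = res ρ x y := fun y =>
    hφs _ (mem_adjoin_of_comm _ h.irr hu0 (res_comm (hC y y.2)))
  choose ψ hψ using hex
  let Ψ : (P : Subgroup G) →* K :=
    { toFun := ψ
      map_one' := by
        apply hφ
        rw [hψ, map_one, coe_one, res_one]
      map_mul' := by
        intro a b
        apply hφ
        rw [hψ, map_mul, hψ, hψ, coe_mul, res_mul (cent_le_norm (hC a a.2)) (cent_le_norm (hC b b.2))] }
  refine isCyclic_of_injective_ringHom Ψ ?_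
  rw [injective_iff_map_eq_one]
  intro y hy
  have hy' : res ρ x (y : G) = 1 := by
    rw [← hψ, show ψ y = 1 from hy, map_one]
  by_contra hne
  -- an element of order `p` in `⟨y⟩`
  have h1 : p ∣ Nat.card (zpowers y) := by
    have h2 : IsPGroup p (zpowers y) := P.isPGroup'.to_subgroup _
    obtain ⟨k, hk⟩ := (IsPGroup.iff_card).1 h2
    have hk0 : k ≠ 0 := by
      rintro rfl
      rw [pow_zero] at hk
      apply hne
      have h3 := (Subgroup.card_eq_one).1 hk
      exact (zpowers_eq_bot).1 h3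
    rw [hk]; exact dvd_pow_self p hk0
  obtain ⟨⟨z, hz⟩, hzo⟩ := exists_prime_orderOf_dvd_card' p h1
  have hzo' : orderOf (z : G) = p := by
    rw [orderOf_coe, ← Subgroup.orderOf_mk z hz]
    exact hzo
  refine h.trivial_of_comm hzo' (hxP z z.2) ?_
  rw [← mem_powers_iff_mem_zpowers] at hz
  obtain ⟨j, hj⟩ := hz
  have hj' : y ^ j = z := hj
  rw [← hj', coe_pow, res_pow (cent_le_norm (hC y y.2)), hy', one_pow]

/-- **The row of a linear group with cyclic Sylow subgroup**: the normaliser. -/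
theorem exists_sylow {S : Type*} [Group S] [Finite S] [hp : Fact p.Prime] (hodd : p ≠ 2)
    (hinj : Function.Injective ρ) (hch : (p : F) ≠ 0) (he : ∀ k, p ∣ Fintype.card F ^ k - 1 → e ∣ k)
    (hdim : finrank F V < 2 * e) (hpG : p ∣ Nat.card G) (f : G →* S) (hf : Function.Surjective f)
    (hker : f.ker ≤ center G) (hkp : ¬ p ∣ Nat.card f.ker) {c : ℕ}
    (hC : ∀ x : G, orderOf x = p → Nat.card (centralizer ({x} : Set G)) ≤ c) :
    ∃ (P : Sylow p S) (y : S), zpowers y = (P : Subgroup S) ∧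
      Nat.card f.ker * Nat.card (normalizer (P : Set S)) ≤ e * c := by
  classical
  obtain ⟨P⟩ : Nonempty (Sylow p G) := inferInstance
  -- a central element of order `p` of `P`
  have hPnt : Nontrivial P := by
    rw [← Finite.one_lt_card_iff_nontrivial]
    exact lt_of_lt_of_le hp.out.one_lt (Nat.le_of_dvd Nat.card_pos (P.dvd_card_of_dvd_card hpG))
  have hZnt : Nontrivial (center P) := P.isPGroup'.center_nontrivial
  obtain ⟨⟨⟨x, hxP⟩, hxZ⟩, hx⟩ : ∃ z : center P, orderOf z = p := by
    apply exists_prime_orderOf_dvd_card'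
    obtain ⟨k, hk⟩ := (IsPGroup.iff_card).1 (P.isPGroup'.to_subgroup (center P))
    have hk0 : k ≠ 0 := by
      rintro rfl
      rw [pow_zero] at hk
      have := Finite.one_lt_card_iff_nontrivial.2 hZnt
      omega
    rw [hk]; exact dvd_pow_self p hk0
  have hxo : orderOf x = p := by
    rw [← hx, ← orderOf_coe, ← orderOf_coe]
  have hsit : Sit ρ p e x := ⟨hinj, hxo, hp.out, hodd, hch, he, hdim⟩
  have hcomm : ∀ y ∈ (P : Subgroup G), y * x = x * y := by
    intro y hy
    have h1 := mem_center_iff.1 hxZ ⟨y, hy⟩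
    exact congrArg Subtype.val h1
  have hcyc := hsit.cyclic P hcomm
  obtain ⟨⟨y, hyP⟩, hy⟩ := hcyc.exists_generator
  have hyz : zpowers y = (P : Subgroup G) := by
    apply le_antisymm
    · rw [zpowers_le]; exact hyP
    · intro z hz
      obtain ⟨k, hk⟩ := hy ⟨z, hz⟩
      exact ⟨k, by simpa using congrArg Subtype.val hk⟩
  refine ⟨P.mapSurjective hf, f y, ?_, ?_⟩
  · rw [Sylow.coe_mapSurjective, ← hyz, MonoidHom.map_zpowers]
  · -- the preimage of the normaliser
    have h1 : ((normalizer ((P.mapSurjective hf : Sylow p S) : Set S)).comap f) ≤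
        normalizer (zpowers x : Set G) := by
      intro g hg
      have hg' : f g ∈ normalizer ((P.mapSurjective hf : Sylow p S) : Set S) := hg
      have h2 : f g * f x * (f g)⁻¹ ∈ ((P.mapSurjective hf : Sylow p S) : Subgroup S) := by
        refine (mem_normalizer_iff.1 hg' (f x)).1 ?_
        rw [Sylow.coe_mapSurjective]
        exact ⟨x, hxP, rfl⟩
      rw [Sylow.coe_mapSurjective] at h2
      obtain ⟨w, hw, hwe⟩ := h2
      -- `g x g⁻¹ = w z`
      obtain ⟨z, hz⟩ : ∃ z, z = w⁻¹ * (g * x * g⁻¹) := ⟨_, rfl⟩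
      have hzk : z ∈ f.ker := by
        rw [MonoidHom.mem_ker, hz, map_mul, map_mul, map_mul, map_inv, map_inv, hwe]
        group
      have hgx : g * x * g⁻¹ = w * z := by rw [hz]; group
      have hzc : Commute w z := (mem_center_iff.1 (hker hzk) w)
      have h3 : w ^ p * z ^ p = 1 := by
        rw [← hzc.mul_pow, ← hgx, conj_pow, ← hxo, pow_orderOf_eq_one]; group
      have hwo : ∃ k, orderOf w = p ^ k := by
        obtain ⟨k, hk⟩ := (IsPGroup.iff_orderOf).1 P.isPGroup' ⟨w, hw⟩
        exact ⟨k, by rw [← hk, Subgroup.orderOf_mk]⟩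
      obtain ⟨k, hk⟩ := hwo
      have hzo : orderOf z ∣ Nat.card f.ker := by
        rw [← Subgroup.orderOf_mk z hzk]; exact orderOf_dvd_natCard _
      have hcop : Nat.Coprime (p ^ k) (orderOf z) := by
        apply Nat.Coprime.pow_left
        rw [Nat.Prime.coprime_iff_not_dvd hp.out]
        exact fun h => hkp (h.trans hzo)
      have h4 : z ^ p = 1 := by
        have h5 : (z ^ p) ^ (p ^ k) = 1 := by
          have h6 : (w ^ p) ^ (p ^ k) * (z ^ p) ^ (p ^ k) = 1 := by
            rw [← (hzc.pow_pow p p).mul_pow, h3, one_pow]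
          have h7 : (w ^ p) ^ (p ^ k) = 1 := by
            rw [← pow_mul, mul_comm, pow_mul, ← hk, pow_orderOf_eq_one, one_pow]
          rwa [h7, one_mul] at h6
        have h8 : orderOf (z ^ p) ∣ p ^ k := orderOf_dvd_of_pow_eq_one h5
        have h9 : orderOf (z ^ p) ∣ orderOf z := orderOf_pow_dvd p
        have h10 := Nat.dvd_gcd h8 h9
        rw [hcop.gcd_eq_one, Nat.dvd_one] at h10
        exact orderOf_eq_one_iff.1 h10
      have h5 : z = 1 := by
        have h8 : orderOf z ∣ p := orderOf_dvd_of_pow_eq_one h4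
        rcases (Nat.dvd_prime hp.out).1 h8 with h9 | h9
        · exact orderOf_eq_one_iff.1 h9
        · exact absurd (h9 ▸ hzo) hkp
      rw [h5, mul_one] at hgx
      have hwp : w ^ p = 1 := by rwa [h4, mul_one] at h3
      -- `w` lies in `⟨x⟩`
      have hwx : w ∈ zpowers x := by
        by_cases hw1 : w = 1
        · rw [hw1]; exact one_mem _
        have how : orderOf w = p := by
          rcases (Nat.dvd_prime hp.out).1 (orderOf_dvd_of_pow_eq_one hwp) with h9 | h9
          · exact absurd (orderOf_eq_one_iff.1 h9) hw1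
          · exact h9
        have : Fintype (P : Subgroup G) := Fintype.ofFinite _
        have h6 := IsCyclic.card_pow_eq_one_le (α := (P : Subgroup G)) hp.out.pos
        have h7 : (Finset.univ.filter (fun a : (P : Subgroup G) =>
            a ∈ zpowers (⟨x, hxP⟩ : (P : Subgroup G)))) =
            Finset.univ.filter (fun a : (P : Subgroup G) => a ^ p = 1) := by
          apply Finset.eq_of_subset_of_card_le
          · intro a ha
            simp only [Finset.mem_filter, Finset.mem_univ, true_and] at ha ⊢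
            obtain ⟨j, hj⟩ := ha
            have hj' : (⟨x, hxP⟩ : (P : Subgroup G)) ^ j = a := hj
            have hxp : (⟨x, hxP⟩ : (P : Subgroup G)) ^ p = 1 := by
              apply Subtype.ext
              change x ^ p = 1
              rw [← hxo, pow_orderOf_eq_one]
            rw [← hj', ← zpow_natCast, ← zpow_mul, mul_comm, zpow_mul, zpow_natCast, hxp, one_zpow]
          · refine h6.trans ?_
            rw [← Fintype.card_subtype, ← Nat.card_eq_fintype_card]
            change p ≤ Nat.card (zpowers (⟨x, hxP⟩ : (P : Subgroup G)))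
            rw [Nat.card_zpowers, Subgroup.orderOf_mk, hxo]
        have h8 : (⟨w, hw⟩ : (P : Subgroup G)) ∈ Finset.univ.filter (fun a : (P : Subgroup G) => a ^ p = 1) := by
          simp only [Finset.mem_filter, Finset.mem_univ, true_and]
          exact Subtype.ext hwp
        rw [← h7] at h8
        simp only [Finset.mem_filter, Finset.mem_univ, true_and] at h8
        obtain ⟨j, hj⟩ := h8
        exact ⟨j, by simpa using congrArg Subtype.val hj⟩
      rw [mem_normalizer_iff_map_conj_eq]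
      apply eq_of_le_of_card_ge
      · rw [map_le_iff_le_comap, zpowers_le]
        change g * x * g⁻¹ ∈ zpowers x
        rw [hgx]; exact hwx
      · rw [card_map_of_injective (MulAut.conj g).injective]
    have h2 : Nat.card f.ker * Nat.card (normalizer ((P.mapSurjective hf : Sylow p S) : Set S)) =
        Nat.card ((normalizer ((P.mapSurjective hf : Sylow p S) : Set S)).comap f) := by
      have h3 := (f.ker).card_mul_index
      have h4 := ((normalizer ((P.mapSurjective hf : Sylow p S) : Set S)).comap f).card_mul_index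
      have h5 := (normalizer ((P.mapSurjective hf : Sylow p S) : Set S)).card_mul_index
      have h6 : (f.ker).index = Nat.card S := by
        rw [index_ker, MonoidHom.range_eq_top.2 hf, card_top]
      rw [index_comap_of_surjective _ hf] at h4
      have h7 : (normalizer ((P.mapSurjective hf : Sylow p S) : Set S)).index ≠ 0 :=
        index_ne_zero_of_finite
      apply Nat.eq_of_mul_eq_mul_right (Nat.pos_of_ne_zero h7)
      rw [h4, mul_assoc, h5, ← h6, h3]
    rw [h2]
    refine (Nat.le_of_dvd Nat.card_pos (card_dvd_of_le h1)).trans ?_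
    exact hsit.card_normalizer_le.trans (Nat.mul_le_mul_left _ (hC x hxo))

/-- **The row of a linear group with cyclic Sylow subgroup.** -/
theorem row_of_lin {S : Type*} [Group S] [Finite S] [hp : Fact p.Prime] (hodd : p ≠ 2)
    (hinj : Function.Injective ρ) (hch : (p : F) ≠ 0) (he : ∀ k, p ∣ Fintype.card F ^ k - 1 → e ∣ k)
    (hdim : finrank F V < 2 * e) (hpG : p ∣ Nat.card G) (f : G →* S) (hf : Function.Surjective f)
    (hker : f.ker ≤ center G) (hkp : ¬ p ∣ Nat.card f.ker) {c : ℕ}
    (hC : ∀ x : G, orderOf x = p → Nat.card (centralizer ({x} : Set G)) ≤ c)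
    {L : ℕ} (hL : ∀ H : Subgroup S, H ≠ ⊤ → L ≤ H.index)
    (hnum : (p + 1) * (e * c) ≤ p * (Nat.card f.ker * L)) : FprRow (p + 1) 1 p S := by
  obtain ⟨P, y, hy, hN⟩ := exists_sylow hodd hinj hch he hdim hpG f hf hker hkp hC
  refine FprRow.of_cyc_le P hy hL ?_
  have hk0 : 0 < Nat.card f.ker := Nat.card_pos
  have hpS : p ∣ Nat.card S := by
    have h3 := (f.ker).card_mul_index
    rw [index_ker, MonoidHom.range_eq_top.2 hf, card_top] at h3
    rw [← h3] at hpG
    exact (hp.out.dvd_mul.1 hpG).resolve_left hkp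
  have hPp : p ≤ Nat.card P := by
    have h1 := P.dvd_card_of_dvd_card hpS
    exact Nat.le_of_dvd Nat.card_pos h1
  apply Nat.le_of_mul_le_mul_left _ hk0
  calc Nat.card f.ker * ((p + 1) * Nat.card (normalizer (P : Set S))) =
      (p + 1) * (Nat.card f.ker * Nat.card (normalizer (P : Set S))) := by ring
    _ ≤ (p + 1) * (e * c) := Nat.mul_le_mul_left _ hN
    _ ≤ p * (Nat.card f.ker * L) := hnum
    _ ≤ Nat.card P * (Nat.card f.ker * L) := Nat.mul_le_mul_right _ hPp
    _ = Nat.card f.ker * (Nat.card P * L) := by ring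

end

end Cyc

end Cfsg.Agent.H409
end

private theorem dce_5c46de3e7722 : _root_.True := by
  try have : _root_.True := by simp only [_root_.Cfsg.Agent.H409.Cyc.res.congr_simp]
  try have : _root_.True := by simp only [_root_.Cfsg.Agent.H409.Cyc.res.eq_1]
  exact _root_.True.intro
end

-- part: H409/FprCycChk
section
set_option linter.all false
open scoped Cfsg.Agent.FastGrp

-- part: H409/FprCycSp
section
/-!
# Cyclic Sylow subgroups: symplectic groups, `p ∣ q ^ m + 1`
-/

set_option autoImplicit false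
set_option linter.unusedSectionVars false

namespace Cfsg.Agent.H409.Cyc

open Module Subgroup Matrix

theorem not_dvd_of_sq {G : Type*} [Group G] [Finite G] {p : ℕ} [hp : Fact p.Prime] (hodd : p ≠ 2) (Z : Subgroup G)
    (hZ : ∀ z ∈ Z, z ^ 2 = 1) : ¬ p ∣ Nat.card Z := by
  intro h
  obtain ⟨z, hz⟩ := exists_prime_orderOf_dvd_card' p h
  have h1 : z ^ 2 = 1 := Subtype.ext (hZ z z.2)
  have h2 := orderOf_dvd_of_pow_eq_one h1
  rw [hz] at h2
  exact hodd ((Nat.prime_dvd_prime_iff_eq hp.out Nat.prime_two).1 h2)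

/-- the order of `|F|` modulo `p` divides `p - 1` -/
theorem lt_of_he {q p e : ℕ} (hp : p.Prime) (hq : ¬ p ∣ q) (he : ∀ k, p ∣ q ^ k - 1 → e ∣ k) : e + 1 ≤ p := by
  have hp2 := hp.two_le
  have h1 : q ^ (p - 1) ≡ 1 [MOD p] := by
    have h2 := Nat.ModEq.pow_totient (((Nat.Prime.coprime_iff_not_dvd hp).2 hq).symm)
    rwa [Nat.totient_prime hp] at h2
  have hq0 : 0 < q := Nat.pos_of_ne_zero (fun h => hq (h ▸ dvd_zero p))
  have h2 : p ∣ q ^ (p - 1) - 1 := (Nat.modEq_iff_dvd' (Nat.one_le_pow _ _ hq0)).1 h1.symm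
  have h3 := Nat.le_of_dvd (by omega) (he _ h2)
  omega

section sp

variable {F : Type*} [Field F] [Fintype F] {m : ℕ}

/-- the natural representation -/
noncomputable def rhoSp (m : ℕ) (F : Type*) [Field F] :
    Matrix.symplecticGroup (Fin m) F →* Module.End F (Fin m ⊕ Fin m → F) where
  toFun g := Matrix.toLin' (g : Matrix (Fin m ⊕ Fin m) (Fin m ⊕ Fin m) F)
  map_one' := by
    rw [OneMemClass.coe_one, Matrix.toLin'_one]; rfl
  map_mul' a b := by
    rw [MulMemClass.coe_mul, Matrix.toLin'_mul]; rfl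

theorem rhoSp_apply (g : Matrix.symplecticGroup (Fin m) F) (v : Fin m ⊕ Fin m → F) :
    rhoSp m F g v = (g : Matrix (Fin m ⊕ Fin m) (Fin m ⊕ Fin m) F) *ᵥ v := Matrix.toLin'_apply _ _

theorem rhoSp_inj : Function.Injective (rhoSp m F) := by
  intro a b hab
  apply Subtype.ext
  exact (Matrix.toLin').injective hab

/-- the form -/
def formSp (m : ℕ) (F : Type*) [Field F] (u v : Fin m ⊕ Fin m → F) : F := u ⬝ᵥ (Matrix.J (Fin m) F *ᵥ v)

theorem isForm_sp : Form (formSp m F) (fun a => a) where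
  add_l u v w := by simp only [formSp, _root_.add_dotProduct]
  add_r u v w := by simp only [formSp, Matrix.mulVec_add, _root_.dotProduct_add]
  smul_l a u v := by simp [formSp]
  smul_r a u v := by simp only [formSp, Matrix.mulVec_smul, _root_.dotProduct_smul, _root_.smul_eq_mul]
  inv a := rfl
  nd v hv := by
    have h1 : Matrix.J (Fin m) F *ᵥ v = 0 := by
      funext i
      have h2 := hv (Pi.single i 1)
      simp only [formSp, single_dotProduct, one_mul] at h2
      exact h2
    have h2 := congrArg (fun w => Matrix.J (Fin m) F *ᵥ w) h1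
    simp only [Matrix.mulVec_mulVec, Matrix.J_squared, Matrix.mulVec_zero, Matrix.neg_mulVec,
      Matrix.one_mulVec] at h2
    exact neg_eq_zero.1 h2

theorem formSp_inv (g : Matrix.symplecticGroup (Fin m) F) (u v : Fin m ⊕ Fin m → F) :
    formSp m F (rhoSp m F g u) (rhoSp m F g v) = formSp m F u v := by
  rw [rhoSp_apply, rhoSp_apply, formSp, formSp, Matrix.mulVec_mulVec]
  have h1 : (g : Matrix (Fin m ⊕ Fin m) (Fin m ⊕ Fin m) F)ᵀ * (Matrix.J (Fin m) F * g) = Matrix.J (Fin m) F := by
    rw [← Matrix.mul_assoc]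
    exact SymplecticGroup.mem_iff'.1 g.2
  rw [← Matrix.vecMul_transpose, ← Matrix.dotProduct_mulVec, Matrix.mulVec_mulVec, h1]

/-- the centraliser of an element of order `p` -/
theorem sp_cent {p : ℕ} [hp : Fact p.Prime] (hodd : p ≠ 2) (hch : (p : F) ≠ 0)
    (he : ∀ k, p ∣ Fintype.card F ^ k - 1 → 2 * m ∣ k) (hm : 1 ≤ m) (x : Matrix.symplecticGroup (Fin m) F)
    (hx : orderOf x = p) :
    Nat.card (centralizer ({x} : Set (Matrix.symplecticGroup (Fin m) F))) ≤ Fintype.card F ^ m + 1 := by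
  have hfr : finrank F (Fin m ⊕ Fin m → F) = 2 * m := by
    rw [Module.finrank_fintype_fun_eq_card, Fintype.card_sum, Fintype.card_fin]; ring
  have h : Sit (rhoSp m F) p (2 * m) x := ⟨rhoSp_inj, hx, hp.out, hodd, hch, he, by rw [hfr]; omega⟩
  have h1 := h.card_centralizer_le isForm_sp formSp_inv (s := Fintype.card F ^ m) (k := 1)
    (by rw [← pow_mul, mul_comm]) (by
      rw [Set.ncard_le_one_iff]
      have htop : UU (rhoSp m F) x = ⊤ := by
        apply Submodule.eq_top_of_finrank_eq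
        rw [h.finrank_UU, hfr]
      have key : ∀ c : Matrix.symplecticGroup (Fin m) F, (∀ u ∈ UU (rhoSp m F) x, rhoSp m F c u = u) → c = 1 := by
        intro c hc
        apply rhoSp_inj
        rw [map_one]
        apply LinearMap.ext
        intro v
        exact hc v (by rw [htop]; trivial)
      rintro a b ⟨-, ha⟩ ⟨-, hb⟩
      rw [key a ha, key b hb])
  rwa [mul_one] at h1

/-- **Symplectic groups, `p ∣ q^m + 1`.** -/
theorem row_sp {p : ℕ} [hp : Fact p.Prime] (hodd : p ≠ 2) (hch : (p : F) ≠ 0)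
    (he : ∀ k, p ∣ Fintype.card F ^ k - 1 → 2 * m ∣ k) (hm : 2 ≤ m) (hpS : p ∣ Nat.card (PSp m F))
    (hq : 4 ≤ Fintype.card F ∨ (3 ≤ m ∧ 3 ≤ Fintype.card F) ∨ 5 ≤ m) : FprRow (p + 1) 1 p (PSp m F) := by
  classical
  obtain ⟨q, hq0⟩ : ∃ q, Fintype.card F = q := ⟨_, rfl⟩
  have hker : (QuotientGroup.mk' (center (Matrix.symplecticGroup (Fin m) F))).ker =
      center (Matrix.symplecticGroup (Fin m) F) := QuotientGroup.ker_mk' _
  have hpq : ¬ p ∣ q := by
    intro h
    apply hch
    obtain ⟨r, hr⟩ := CharP.exists F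
    have hrp : r.Prime := CharP.char_is_prime F r
    obtain ⟨n, -, hn⟩ := FiniteField.card F r
    rw [hq0] at hn
    rw [hn] at h
    have h1 := (Nat.prime_dvd_prime_iff_eq hp.out hrp).1 (hp.out.dvd_of_dvd_pow h)
    rw [h1]
    exact CharP.cast_eq_zero F r
  have hpe : 2 * m + 1 ≤ p := lt_of_he hp.out (by rw [hq0]; exact hpq) he
  have hq2 : 2 ≤ q := hq0 ▸ Fintype.one_lt_card
  have hpG : p ∣ Nat.card (Matrix.symplecticGroup (Fin m) F) := by
    refine hpS.trans ?_
    exact Subgroup.card_quotient_dvd_card _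
  have hmain := fun (L : ℕ) (hL : ∀ H : Subgroup (PSp m F), H ≠ ⊤ → L ≤ H.index)
    (hnum : (2 * m + 1) * (q ^ m + 1) ≤ L) =>
    row_of_lin (S := PSp m F) (F := F) (ρ := rhoSp m F) (p := p) (e := 2 * m) hodd rhoSp_inj hch he
    (by
      rw [Module.finrank_fintype_fun_eq_card, Fintype.card_sum, Fintype.card_fin]; omega) hpG
    (QuotientGroup.mk' (center (Matrix.symplecticGroup (Fin m) F))) (QuotientGroup.mk'_surjective _)
    (by rw [hker]) (by
      rw [hker]
      exact not_dvd_of_sq hodd _ (fun z hz => Cfsg.Agent.H973.ZPSp.center_sq hz))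
    (c := q ^ m + 1) (fun x hx => hq0 ▸ sp_cent hodd hch he (by omega) x hx) (L := L) hL (by
      have h1 : 1 ≤ Nat.card (QuotientGroup.mk' (center (Matrix.symplecticGroup (Fin m) F))).ker := Nat.card_pos
      have h2 : (p + 1) * (2 * m) ≤ p * (2 * m + 1) := by linarith only [hpe]
      calc (p + 1) * (2 * m * (q ^ m + 1)) = (p + 1) * (2 * m) * (q ^ m + 1) := by ring
        _ ≤ p * (2 * m + 1) * (q ^ m + 1) := Nat.mul_le_mul_right _ h2
        _ = p * (1 * ((2 * m + 1) * (q ^ m + 1))) := by ring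
        _ ≤ _ := Nat.mul_le_mul_left _ (Nat.mul_le_mul h1 hnum))
  rcases Nat.lt_or_ge 2 q with hq3 | hq3
  · refine hmain _ (Cfsg.Agent.S2141.result hq0 m hm (by omega) (by rintro ⟨h1, h2⟩; omega)).1 ?_
    rw [Nat.le_div_iff_mul_le (by omega)]
    have h2 : q ^ (2 * m) - 1 = (q ^ m + 1) * (q ^ m - 1) := by
      have := Nat.sq_sub_sq (q ^ m) 1
      rw [one_pow, ← pow_mul, mul_comm m 2] at this
      exact this
    rw [h2, mul_comm (2 * m + 1), mul_assoc]
    apply Nat.mul_le_mul_left
    -- `(2 m + 1) (q - 1) ≤ q ^ m - 1`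
    have key : ∀ k : ℕ, (2 * (k + 3) + 1) * (q - 1) ≤ q ^ (k + 3) - 1 := by
      intro k
      obtain ⟨r, hr⟩ : ∃ r, q = r + 1 := ⟨q - 1, by omega⟩
      have hr2 : 2 ≤ r := by omega
      subst hr
      rw [Nat.add_sub_cancel]
      induction k with
      | zero =>
        have : (r + 1) ^ 3 = r ^ 3 + 3 * r ^ 2 + 3 * r + 1 := by ring
        norm_num only [_root_.ge_iff_le]
        rw [this]
        have h5 : 7 * r ≤ r ^ 3 + 3 * r ^ 2 + 3 * r := by nlinarith only [Nat.mul_le_mul hr2 hr2]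
        omega
      | succ k ih =>
        have h5 : 1 ≤ (r + 1) ^ (k + 3) := Nat.one_le_pow _ _ (by omega)
        have h6 : (r + 1) ^ (k + 1 + 3) = (r + 1) * (r + 1) ^ (k + 3) := by ring
        rw [h6]
        obtain ⟨a, ha⟩ : ∃ a, (r + 1) ^ (k + 3) = a + 1 := ⟨(r + 1) ^ (k + 3) - 1, by omega⟩
        rw [ha] at ih ⊢
        rw [Nat.add_sub_cancel] at ih
        have h7 : (r + 1) * (a + 1) = r * a + a + r + 1 := by ring
        rw [h7, Nat.add_sub_cancel]
        nlinarith only [hr2, ih]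
    rcases Nat.lt_or_ge 2 m with h3 | h3
    · obtain ⟨k, rfl⟩ : ∃ k, m = k + 3 := ⟨m - 3, by omega⟩
      exact key k
    · have hm2 : m = 2 := by omega
      subst hm2
      have hq4 : 4 ≤ q := by omega
      obtain ⟨r, hr⟩ : ∃ r, q = r + 1 := ⟨q - 1, by omega⟩
      subst hr
      rw [Nat.add_sub_cancel]
      have : (r + 1) ^ 2 = r ^ 2 + 2 * r + 1 := by ring
      rw [this, Nat.add_sub_cancel]
      nlinarith only [hq4]
  · have hq2' : q = 2 := by omega
    subst hq2'
    have hm5 : 5 ≤ m := by omega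
    refine hmain _ (Cfsg.Agent.S2142.result hq0 m (by omega)).1 ?_
    obtain ⟨k, rfl⟩ : ∃ k, m = k + 5 := ⟨m - 5, by omega⟩
    have h1 : ∀ k : ℕ, 2 * (2 * (k + 5) + 2) ≤ 2 ^ (k + 5) := by
      intro k
      induction k with
      | zero => norm_num
      | succ k ih =>
        have : 2 ^ (k + 1 + 5) = 2 * 2 ^ (k + 5) := by ring
        rw [this]; omega
    have h2 := h1 k
    have h3 : 2 ^ (k + 5) = 2 * 2 ^ (k + 5 - 1) := by
      rw [show k + 5 - 1 = k + 4 by omega]; ring
    have h4 : 2 * (k + 5) + 2 ≤ 2 ^ (k + 5 - 1) := by omega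
    have h5 : 32 ≤ 2 ^ (k + 5) := by
      calc 32 = 2 ^ 5 := by norm_num
        _ ≤ 2 ^ (k + 5) := Nat.pow_le_pow_right (by norm_num) (by omega)
    obtain ⟨a, ha⟩ : ∃ a, 2 ^ (k + 5) = a + 1 := ⟨2 ^ (k + 5) - 1, by omega⟩
    have h6 : (2 * (k + 5) + 2) * a ≤ 2 ^ (k + 5 - 1) * (2 ^ (k + 5) - 1) := by
      rw [ha, Nat.add_sub_cancel]
      exact Nat.mul_le_mul_right _ h4
    refine le_trans ?_ h6
    rw [ha]
    have h7 : 2 * (2 * (k + 5) + 1) ≤ a := by (clear * - h2 ha; omega)
    linarith only [h2, ha]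

end sp

end Cfsg.Agent.H409.Cyc
end

-- part: H409/FprCycSU
section
/-!
# Cyclic Sylow subgroups: unitary groups
-/

set_option autoImplicit false
set_option linter.unusedSectionVars false

namespace Cfsg.Agent.H409.Cyc

open Module Subgroup Matrix Cfsg

section gen

variable {F : Type*} [Field F] {V : Type*} [AddCommGroup V] [Module F V] [Module.Finite F V]

/-- a linear map of determinant one, trivial on a hyperplane, is trivial modulo the hyperplane -/
theorem sub_mem_of_det {c : Module.End F V} {U : Submodule F V} (hU : ∀ u ∈ U, c u = u)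
    (hdim : finrank F V = finrank F U + 1) (hdet : LinearMap.det c = 1) (v : V) : c v - v ∈ U := by
  have he : U ≤ U.comap c := fun u hu => by
    rw [Submodule.mem_comap, hU u hu]; exact hu
  have h1 := LinearMap.det_eq_det_mul_det U c he
  have h2 : c.restrict he = LinearMap.id := by
    apply LinearMap.ext
    intro u
    apply Subtype.ext
    exact hU u u.2
  rw [hdet, h2, LinearMap.det_id, one_mul] at h1
  have h3 : finrank F (V ⧸ U) = 1 := by
    have := Submodule.finrank_quotient_add_finrank U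
    omega
  obtain ⟨w, hw0, hw⟩ := finrank_eq_one_iff'.1 h3
  obtain ⟨a, ha⟩ := hw (U.mapQ U c he w)
  have h4 : U.mapQ U c he = a • LinearMap.id := by
    apply LinearMap.ext
    intro y
    obtain ⟨b, rfl⟩ := hw y
    rw [map_smul, ← ha, LinearMap.smul_apply, LinearMap.id_apply, smul_comm]
  rw [h4, LinearMap.det_smul, h3, pow_one, LinearMap.det_id, mul_one] at h1
  rw [← h1, one_smul] at h4
  rw [← Submodule.Quotient.mk_eq_zero, Submodule.Quotient.mk_sub, sub_eq_zero]
  have h5 := congrArg (fun f => f (Submodule.Quotient.mk (p := U) v)) h4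
  exact h5

end gen

section gen2

variable {F : Type*} [Field F] [Fintype F] {V : Type*} [AddCommGroup V] [Module F V] [Finite V]
  {G : Type*} [Group G] [Finite G] {ρ : G →* Module.End F V} {p e : ℕ}

/-- elements of determinant one, trivial on `[V, x]` of codimension one, commuting with `x` -/
theorem Sit.eq_one_of_det {x : G} (h : Sit ρ p e x) (hdim : finrank F V = e + 1) {c : G}
    (hc : c ∈ centralizer ({x} : Set G)) (hU : ∀ u ∈ UU ρ x, ρ c u = u) (hdet : LinearMap.det (ρ c) = 1) :
    c = 1 := by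
  have hfd : Module.Finite F V := Module.Finite.of_finite
  have hdisj : UU ρ x ⊓ LinearMap.ker (ρ x - 1) = ⊥ := by
    rw [eq_bot_iff]
    rintro w ⟨hw1, hw2⟩
    rw [SetLike.mem_coe, LinearMap.mem_ker, LinearMap.sub_apply, Module.End.one_apply, sub_eq_zero] at hw2
    rw [Submodule.mem_bot]
    exact h.disj hw1 hw2
  have hsup : UU ρ x ⊔ LinearMap.ker (ρ x - 1) = ⊤ := by
    apply Submodule.eq_top_of_finrank_eq
    have h1 := Submodule.finrank_sup_add_finrank_inf_eq (UU ρ x) (LinearMap.ker (ρ x - 1))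
    rw [hdisj, finrank_bot, add_zero] at h1
    rw [h1]
    exact LinearMap.finrank_range_add_finrank_ker (ρ x - 1)
  have hcx : c * x = x * c := mem_centralizer_singleton_iff.1 hc
  apply h.inj
  rw [map_one]
  apply LinearMap.ext
  intro v
  have hv : v ∈ UU ρ x ⊔ LinearMap.ker (ρ x - 1) := by rw [hsup]; trivial
  obtain ⟨u1, hu1, w, hw, rfl⟩ := Submodule.mem_sup.1 hv
  have hw' : ρ x w = w := by
    rwa [LinearMap.mem_ker, LinearMap.sub_apply, Module.End.one_apply, sub_eq_zero] at hw
  have h1 : ρ c w - w ∈ UU ρ x := sub_mem_of_det hU (by rw [hdim, h.finrank_UU]) hdet w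
  have h2 : ρ x (ρ c w - w) = ρ c w - w := by
    rw [map_sub, ← rho_mul_apply, ← hcx, rho_mul_apply, hw']
  have h3 := h.disj h1 h2
  rw [sub_eq_zero] at h3
  rw [map_add, hU u1 hu1, h3]; rfl

theorem not_dvd_of_scalar [hp : Fact p.Prime] (he : ∀ k, p ∣ Fintype.card F ^ k - 1 → e ∣ k) (h2 : 2 ≤ e)
    (hinj : Function.Injective ρ) [Nontrivial V] (Z : Subgroup G)
    (hZ : ∀ z ∈ Z, ∃ c : F, ρ z = c • 1) : ¬ p ∣ Nat.card Z := by
  classical
  intro h
  obtain ⟨z, hz⟩ := exists_prime_orderOf_dvd_card' p h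
  obtain ⟨c, hc⟩ := hZ z z.2
  have hz' : orderOf (z : G) = p := by rw [orderOf_coe, hz]
  obtain ⟨v, hv⟩ := exists_ne (0 : V)
  have hpow : ∀ k : ℕ, ρ ((z : G) ^ k) = c ^ k • 1 := by
    intro k
    rw [map_pow, hc, smul_pow, one_pow]
  have hcp : c ^ p = 1 := by
    have h3 := hpow p
    rw [← hz', pow_orderOf_eq_one, map_one, hz'] at h3
    have h4 := congrArg (fun f : Module.End F V => f v) h3
    simp only [Module.End.one_apply, LinearMap.smul_apply] at h4
    have h5 : (c ^ p - 1) • v = 0 := by rw [sub_smul, ← h4, one_smul, sub_self]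
    rcases smul_eq_zero.1 h5 with h6 | h6
    · exact sub_eq_zero.1 h6
    · exact absurd h6 hv
  have hc1 : c ≠ 1 := by
    rintro rfl
    rw [one_smul, ← map_one ρ] at hc
    have h3 := hinj hc
    rw [h3, orderOf_one] at hz'
    exact hp.out.one_lt.ne hz'
  have hc0 : c ≠ 0 := by
    rintro rfl
    rw [zero_pow hp.out.ne_zero] at hcp
    exact zero_ne_one hcp
  have h3 : orderOf (Units.mk0 c hc0) = p := by
    apply orderOf_eq_prime
    · apply Units.ext; rw [Units.val_pow_eq_pow_val]; exact hcp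
    · intro h4; exact hc1 (congrArg Units.val h4)
  have h4 : p ∣ Fintype.card F ^ 1 - 1 := by
    rw [pow_one, ← Fintype.card_units, ← h3]
    exact orderOf_dvd_card
  have h5 := Nat.le_of_dvd one_pos (he 1 h4)
  omega

theorem not_dvd_card_of_ch [hp : Fact p.Prime] (hch : (p : F) ≠ 0) : ¬ p ∣ Fintype.card F := by
  intro h
  apply hch
  obtain ⟨r, hr⟩ := CharP.exists F
  have hrp : r.Prime := CharP.char_is_prime F r
  obtain ⟨n, -, hn⟩ := FiniteField.card F r
  rw [hn] at h
  have h1 := (Nat.prime_dvd_prime_iff_eq hp.out hrp).1 (hp.out.dvd_of_dvd_pow h)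
  rw [h1]
  exact CharP.cast_eq_zero F r

end gen2

section su

variable {F : Type*} [Field F] [Fintype F] {n q : ℕ}

/-- the natural representation -/
noncomputable def rhoSU (n : ℕ) (F : Type*) [Field F] (q : ℕ) : SU n F q →* Module.End F (Fin n → F) where
  toFun g := Matrix.toLin' ((g : Matrix.SpecialLinearGroup (Fin n) F) : Matrix (Fin n) (Fin n) F)
  map_one' := by
    rw [OneMemClass.coe_one, Matrix.SpecialLinearGroup.coe_one, Matrix.toLin'_one]; rfl
  map_mul' a b := by
    rw [MulMemClass.coe_mul, Matrix.SpecialLinearGroup.coe_mul, Matrix.toLin'_mul]; rfl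

theorem rhoSU_apply (g : SU n F q) (v : Fin n → F) :
    rhoSU n F q g v = ((g : Matrix.SpecialLinearGroup (Fin n) F) : Matrix (Fin n) (Fin n) F) *ᵥ v :=
  Matrix.toLin'_apply _ _

theorem rhoSU_inj : Function.Injective (rhoSU n F q) := by
  intro a b hab
  apply Subtype.ext
  apply Subtype.ext
  exact (Matrix.toLin').injective hab

theorem exists_q_pow (hF : Fintype.card F = q ^ 2) : ∃ (r j : ℕ) (_ : r.Prime) (_ : CharP F r), q = r ^ j := by
  obtain ⟨r, hr⟩ := CharP.exists F
  have hrp : r.Prime := CharP.char_is_prime F r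
  obtain ⟨N, -, hN⟩ := FiniteField.card F r
  have h1 : q ∣ r ^ (N : ℕ) := by rw [← hN, hF]; exact dvd_pow_self q (by norm_num)
  obtain ⟨j, -, hj⟩ := (Nat.dvd_prime_pow hrp).1 h1
  exact ⟨r, j, hrp, hr, hj⟩

theorem add_pow_q (hF : Fintype.card F = q ^ 2) (a b : F) : (a + b) ^ q = a ^ q + b ^ q := by
  obtain ⟨r, j, hr, hc, hq⟩ := exists_q_pow hF
  have : Fact r.Prime := ⟨hr⟩
  rw [hq]
  exact add_pow_char_pow a b r j

theorem isForm_su (hF : Fintype.card F = q ^ 2) : Form (hermForm n F q) (fun a => a ^ q) where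
  add_l u v w := by
    simp only [hermForm, Pi.add_apply, add_mul, Finset.sum_add_distrib]
  add_r u v w := by
    simp only [hermForm, Pi.add_apply, add_pow_q hF, mul_add, Finset.sum_add_distrib]
  smul_l a u v := by
    simp only [hermForm, Pi.smul_apply, smul_eq_mul, mul_assoc, Finset.mul_sum]
  smul_r a u v := by
    simp only [hermForm, Pi.smul_apply, smul_eq_mul, mul_pow, Finset.mul_sum]
    apply Finset.sum_congr rfl
    intro i _
    have h1 : (a ^ q) ^ q = a := by
      rw [← pow_mul, ← pow_two, ← hF, FiniteField.pow_card]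
    rw [h1]; ring
  inv a := by
    rw [← pow_mul, ← pow_two, ← hF, FiniteField.pow_card]
  nd v hv := by
    classical
    funext i
    have h2 := hv (Pi.single i 1)
    simp only [hermForm] at h2
    rw [Finset.sum_eq_single i] at h2
    · rw [Pi.single_eq_same, one_mul] at h2
      have hq : q ≠ 0 := by
        rintro rfl
        have := Fintype.card_pos (α := F)
        omega
      exact (pow_eq_zero_iff hq).1 h2
    · intro j _ hj
      rw [Pi.single_eq_of_ne hj, zero_mul]
    · intro h; exact absurd (Finset.mem_univ i) h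

theorem formSU_inv (g : SU n F q) (u v : Fin n → F) :
    hermForm n F q (rhoSU n F q g u) (rhoSU n F q g v) = hermForm n F q u v := by
  rw [rhoSU_apply, rhoSU_apply]
  exact g.2 u v

theorem su_cent {p : ℕ} [hp : Fact p.Prime] (hodd : p ≠ 2) (hF : Fintype.card F = q ^ 2) (hch : (p : F) ≠ 0) {e : ℕ}
    (he : ∀ k, p ∣ Fintype.card F ^ k - 1 → e ∣ k) (h2 : 2 ≤ e) (hn : n = e ∨ n = e + 1) (x : SU n F q)
    (hx : orderOf x = p) :
    Nat.card (centralizer ({x} : Set (SU n F q))) ≤ q ^ e + 1 := by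
  have hfr : finrank F (Fin n → F) = n := Module.finrank_fin_fun F
  have h : Sit (rhoSU n F q) p e x := ⟨rhoSU_inj, hx, hp.out, hodd, hch, he, by rw [hfr]; omega⟩
  have h1 := h.card_centralizer_le (isForm_su hF) formSU_inv (s := q ^ e) (k := 1)
    (by rw [hF, ← pow_mul, ← pow_mul, mul_comm]) (by
      rw [Set.ncard_le_one_iff]
      have key : ∀ c : SU n F q, c ∈ centralizer ({x} : Set (SU n F q)) →
          (∀ u ∈ UU (rhoSU n F q) x, rhoSU n F q c u = u) → c = 1 := by
        intro c hcc hc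
        rcases hn with hn | hn
        · have htop : UU (rhoSU n F q) x = ⊤ := by
            apply Submodule.eq_top_of_finrank_eq
            rw [h.finrank_UU, hfr, hn]
          apply rhoSU_inj
          rw [map_one]
          apply LinearMap.ext
          intro v
          exact hc v (by rw [htop]; trivial)
        · apply h.eq_one_of_det (by rw [hfr, hn]) hcc hc
          have h3 : rhoSU n F q c = Matrix.toLin' ((c : Matrix.SpecialLinearGroup (Fin n) F) :
              Matrix (Fin n) (Fin n) F) := rfl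
          rw [h3, LinearMap.det_toLin']
          exact (c : Matrix.SpecialLinearGroup (Fin n) F).2
      rintro a b ⟨ha', ha⟩ ⟨hb', hb⟩
      rw [key a ha' ha, key b hb' hb])
  rwa [mul_one] at h1

theorem row_su_gen {p : ℕ} [hp : Fact p.Prime] (hodd : p ≠ 2) (hF : Fintype.card F = q ^ 2) (hch : (p : F) ≠ 0)
    {e : ℕ} (he : ∀ k, p ∣ Fintype.card F ^ k - 1 → e ∣ k) (h2 : 2 ≤ e) (hn : n = e ∨ n = e + 1) (hn3 : 3 ≤ n)
    (hpS : p ∣ Nat.card (PSU n F q)) {L : ℕ}
    (hL : ∀ H : Subgroup (PSU n F q), H ≠ ⊤ → L ≤ H.index) (hnum : (e + 1) * (q ^ e + 1) ≤ L) :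
    FprRow (p + 1) 1 p (PSU n F q) := by
  classical
  have hfin : Finite (SU n F q) := inferInstance
  have hker : (QuotientGroup.mk' (center (SU n F q))).ker = center (SU n F q) := QuotientGroup.ker_mk' _
  have hpe : e + 1 ≤ p := lt_of_he hp.out (not_dvd_card_of_ch hch) he
  have hpG : p ∣ Nat.card (SU n F q) := hpS.trans (Subgroup.card_quotient_dvd_card _)
  have hnt : Nontrivial (Fin n → F) := by
    have : Nonempty (Fin n) := ⟨⟨0, by omega⟩⟩
    infer_instance
  refine row_of_lin (S := PSU n F q) (F := F) (ρ := rhoSU n F q) (p := p) (e := e) hodd rhoSU_inj hch he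
    (by rw [Module.finrank_fin_fun]; omega) hpG
    (QuotientGroup.mk' (center (SU n F q))) (QuotientGroup.mk'_surjective _)
    (by rw [hker]) (by
      rw [hker]
      apply not_dvd_of_scalar he h2 rhoSU_inj
      intro z hz
      obtain ⟨c, hcn, hcq, hzc⟩ := (LieClassical.SUBasic.mem_center_SU_iff hF hn3 z).1 hz
      refine ⟨c, ?_⟩
      apply LinearMap.ext
      intro v
      rw [rhoSU_apply, hzc, LieClassical.SUBasic.coe_suScalar]
      simp)
    (c := q ^ e + 1) (fun x hx => su_cent hodd hF hch he h2 hn x hx) (L := L) hL (by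
      have h1 : 1 ≤ Nat.card (QuotientGroup.mk' (center (SU n F q))).ker := Nat.card_pos
      have h3 : (p + 1) * e ≤ p * (e + 1) := by linarith only [hpe]
      calc (p + 1) * (e * (q ^ e + 1)) = (p + 1) * e * (q ^ e + 1) := by ring
        _ ≤ p * (e + 1) * (q ^ e + 1) := Nat.mul_le_mul_right _ h3
        _ = p * (1 * ((e + 1) * (q ^ e + 1))) := by ring
        _ ≤ _ := Nat.mul_le_mul_left _ (Nat.mul_le_mul h1 hnum))

theorem two_le_of_card (hF : Fintype.card F = q ^ 2) : 2 ≤ q := by
  have h1 := Fintype.one_lt_card (α := F)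
  rw [hF] at h1
  by_contra hc
  interval_cases q <;> norm_num at h1

/-- `a (Q - 1) ≤ Q ^ b - 1` by induction -/
theorem geom_le {Q a b : ℕ} (hQ : 2 ≤ Q) (h : a * (Q - 1) ≤ Q ^ b - 1) (k c : ℕ) (hc : c ≤ a) :
    (a + c * k) * (Q - 1) ≤ Q ^ (b + k) - 1 := by
  obtain ⟨r, rfl⟩ : ∃ r, Q = r + 1 := ⟨Q - 1, by omega⟩
  rw [Nat.add_sub_cancel] at h ⊢
  have hr : 1 ≤ r := by omega
  induction k with
  | zero => simpa only [_root_.MulZeroClass.mul_zero, _root_.add_zero, _root_.ge_iff_le] using h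
  | succ k ih =>
    have h6 : (r + 1) ^ (b + (k + 1)) = (r + 1) * (r + 1) ^ (b + k) := by ring
    have h5 : 1 ≤ (r + 1) ^ (b + k) := Nat.one_le_pow _ _ (by omega)
    rw [h6]
    obtain ⟨t, ht⟩ : ∃ t, (r + 1) ^ (b + k) = t + 1 := ⟨(r + 1) ^ (b + k) - 1, by omega⟩
    rw [ht] at ih ⊢
    rw [Nat.add_sub_cancel] at ih
    have h7 : (r + 1) * (t + 1) = r * t + t + r + 1 := by ring
    rw [h7, Nat.add_sub_cancel]
    have h8 : c ≤ t + 1 := by
      have : a * r ≤ t := by
        refine le_trans ?_ ih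
        exact Nat.mul_le_mul_right _ (Nat.le_add_right _ _)
      nlinarith only [hc, hQ, this]
    have h9 : c * r ≤ (t + 1) * r := Nat.mul_le_mul_right _ h8
    have h10 : (a + c * (k + 1)) * r = (a + c * k) * r + c * r := by ring
    rw [h10]
    linarith only [ih, h9]

/-- **Unitary groups of odd dimension.** -/
theorem row_su_odd {p : ℕ} [hp : Fact p.Prime] (hodd : p ≠ 2) (hF : Fintype.card F = q ^ 2) (hch : (p : F) ≠ 0)
    (he : ∀ k, p ∣ Fintype.card F ^ k - 1 → n ∣ k) (hn5 : 5 ≤ n) (hno : Odd n) (hq : 3 ≤ q ∨ 7 ≤ n)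
    (hpS : p ∣ Nat.card (PSU n F q)) : FprRow (p + 1) 1 p (PSU n F q) := by
  have hq2 : 2 ≤ q := two_le_of_card hF
  refine row_su_gen hodd hF hch he (by omega) (Or.inl rfl) (by omega) hpS
    (Cfsg.Agent.S2151.result q hF hq2 n hn5 hno).1 ?_
  have hqq : 4 ≤ q ^ 2 := by nlinarith only [hq2]
  rw [Nat.le_div_iff_mul_le (by omega)]
  have key : (n + 1) * (q ^ 2 - 1) ≤ q ^ (n - 1) - 1 := by
    rcases Nat.lt_or_ge n 7 with h7 | h7
    · have hn : n = 5 := by
        rcases hno with ⟨k, hk⟩
        omega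
      subst hn
      have hq3 : 3 ≤ q := by omega
      have h9 : 9 ≤ q ^ 2 := by nlinarith only [hq3]
      have h1 : q ^ (5 - 1) = q ^ 2 * q ^ 2 := by ring
      rw [h1]
      obtain ⟨t, ht⟩ : ∃ t, q ^ 2 = t + 1 := ⟨q ^ 2 - 1, by omega⟩
      rw [ht, Nat.add_sub_cancel]
      have h2 : (t + 1) * (t + 1) = t * t + 2 * t + 1 := by ring
      rw [h2, Nat.add_sub_cancel]
      have : 8 ≤ t := by omega
      nlinarith only [h9, ht]
    · obtain ⟨k, hk⟩ := hno
      obtain ⟨j, rfl⟩ : ∃ j, k = j + 3 := ⟨k - 3, by omega⟩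
      have h1 := geom_le (Q := q ^ 2) (a := 8) (b := 3) (by omega) (by
        obtain ⟨t, ht⟩ : ∃ t, q ^ 2 = t + 1 := ⟨q ^ 2 - 1, by omega⟩
        rw [ht, Nat.add_sub_cancel]
        have h2 : (t + 1) ^ 3 = t * t * t + 3 * (t * t) + 3 * t + 1 := by ring
        rw [h2, Nat.add_sub_cancel]
        have : 3 ≤ t := by omega
        nlinarith only [Nat.mul_le_mul this this]) j 2 (by norm_num)
      have h3 : n + 1 = 8 + 2 * j := by omega
      have h4 : q ^ (n - 1) = (q ^ 2) ^ (3 + j) := by
        rw [← pow_mul]; congr 1; omega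
      rw [h3, h4]
      exact h1
  calc (n + 1) * (q ^ n + 1) * (q ^ 2 - 1) = (q ^ n + 1) * ((n + 1) * (q ^ 2 - 1)) := by ring
    _ ≤ (q ^ n + 1) * (q ^ (n - 1) - 1) := Nat.mul_le_mul_left _ key

/-- **Unitary groups of even dimension.** -/
theorem row_su_even {p : ℕ} [hp : Fact p.Prime] (hodd : p ≠ 2) (hF : Fintype.card F = q ^ 2) (hch : (p : F) ≠ 0)
    (he : ∀ k, p ∣ Fintype.card F ^ k - 1 → n - 1 ∣ k) (hn4 : 4 ≤ n) (hno : Even n) (hq : 3 ≤ q ∨ 6 ≤ n)
    (hpS : p ∣ Nat.card (PSU n F q)) : FprRow (p + 1) 1 p (PSU n F q) := by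
  have hq2 : 2 ≤ q := two_le_of_card hF
  have hqq : 4 ≤ q ^ 2 := by nlinarith only [hq2]
  rcases Nat.lt_or_ge n 6 with h6 | h6
  · have hn : n = 4 := by
      rcases hno with ⟨k, hk⟩
      omega
    subst hn
    have hq3 : 3 ≤ q := by omega
    refine row_su_gen hodd hF hch he (by norm_num) (Or.inr rfl) (by norm_num) hpS
      (Cfsg.Agent.S2150.result q hF hq2).1 ?_
    norm_num only [_root_.Order.lt_add_one_iff, _root_.zero_le, _root_.mul_le_mul_iff_left₀]
    omega
  · obtain ⟨k, hk⟩ := hno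
    obtain ⟨j, rfl⟩ : ∃ j, k = j + 3 := ⟨k - 3, by omega⟩
    have key : n * (q ^ 2 - 1) ≤ q ^ n - 1 := by
      have h1 := geom_le (Q := q ^ 2) (a := 6) (b := 3) (by omega) (by
        obtain ⟨t, ht⟩ : ∃ t, q ^ 2 = t + 1 := ⟨q ^ 2 - 1, by omega⟩
        rw [ht, Nat.add_sub_cancel]
        have h2 : (t + 1) ^ 3 = t * t * t + 3 * (t * t) + 3 * t + 1 := by ring
        rw [h2, Nat.add_sub_cancel]
        have : 3 ≤ t := by omega
        nlinarith only [Nat.mul_le_mul this this]) j 2 (by norm_num)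
      have h3 : n = 6 + 2 * j := by omega
      have h4 : q ^ n = (q ^ 2) ^ (3 + j) := by
        rw [← pow_mul]; congr 1; omega
      rw [h4]
      rw [h3]
      exact h1
    rcases Nat.lt_or_ge 2 q with h2 | h2
    · refine row_su_gen hodd hF hch he (by omega) (Or.inr (by omega)) (by omega) hpS
        (Cfsg.Agent.S2152.result q hF (by omega) n h6 ⟨_, hk⟩).1 ?_
      rw [Nat.le_div_iff_mul_le (by omega), show n - 1 + 1 = n by omega]
      calc n * (q ^ (n - 1) + 1) * (q ^ 2 - 1) = n * (q ^ 2 - 1) * (q ^ (n - 1) + 1) := by ring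
        _ ≤ (q ^ n - 1) * (q ^ (n - 1) + 1) := Nat.mul_le_mul_right _ key
    · have hq' : q = 2 := by omega
      subst hq'
      refine row_su_gen hodd hF hch he (by omega) (Or.inr (by omega)) (by omega) hpS
        (L := (n - 1 + 1) * (2 ^ (n - 1) + 1)) ?_ le_rfl
      intro H hH
      rw [show n - 1 + 1 = n by omega]
      have hlow := H77.Final.lower hF (by omega : 5 ≤ n) H hH
      obtain ⟨X, hX⟩ : ∃ X, X = 2 ^ (n - 2) := ⟨_, rfl⟩
      have hX1 : 2 ^ (n - 1) = 2 * X := by
        rw [hX, ← pow_succ']; congr 1; omega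
      have hXn : 2 ^ n = 4 * X := by
        rw [hX, show (4 : ℕ) = 2 ^ 2 by norm_num, ← pow_add]; congr 1; omega
      have hn3 : 3 * n ≤ 4 * X - 1 := by
        have h1 := key
        rw [hXn] at h1
        norm_num only [] at h1
        omega
      have hX16 : 16 ≤ X := by
        rw [hX]
        calc 16 = 2 ^ 4 := by norm_num
          _ ≤ 2 ^ (n - 2) := Nat.pow_le_pow_right (by norm_num) (by omega)
      rw [hX1]
      -- `3 n (2 X + 1) ≤ 3 index`
      have hmain : 3 * (n * (2 * X + 1)) ≤ 2 * X * (4 * X - 1) := by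
        have h8 : 3 * n + 1 ≤ 2 * X := by
          -- `3 n + 1 ≤ 2 ^ (n - 1)`
          have h9 := geom_le (Q := 2) (a := 19) (b := 5) (by norm_num) (by norm_num) (2 * j) 3 (by norm_num)
          have h10 : 2 ^ (5 + 2 * j) = 2 * X := by
            rw [← hX1]; congr 1; omega
          rw [h10] at h9
          norm_num only [_root_.mul_one] at h9
          omega
        obtain ⟨Y, hY⟩ : ∃ Y, 4 * X = Y + 1 := ⟨4 * X - 1, by omega⟩
        rw [hY, Nat.add_sub_cancel]
        have h11 : 3 * (n * (2 * X + 1)) = 3 * n * (2 * X + 1) := by ring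
        rw [h11]
        have h12 : 3 * n * (2 * X + 1) ≤ (2 * X - 1) * (2 * X + 1) := Nat.mul_le_mul_right _ (by omega)
        refine h12.trans ?_
        obtain ⟨Z, hZ⟩ : ∃ Z, 2 * X = Z + 1 := ⟨2 * X - 1, by omega⟩
        rw [hZ, Nat.add_sub_cancel]
        have h13 : Y = 2 * Z + 1 := by omega
        rw [h13]
        nlinarith only []
      rcases hlow with h | ⟨-, -, h⟩
      · have hneg : ((-1 : ℤ)) ^ n = 1 := Even.neg_one_pow ⟨_, hk⟩
        rw [H77.Step1.In, hneg] at h
        have hXZ : ((2 : ℕ) : ℤ) ^ (n - 2) = (X : ℤ) := by rw [hX]; push_cast; rfl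
        rw [hXZ] at h
        have h2 : ((3 * (n * (2 * X + 1)) : ℕ) : ℤ) ≤ ((2 * X * (4 * X - 1) : ℕ) : ℤ) := by exact_mod_cast hmain
        have h3 : ((4 * X - 1 : ℕ) : ℤ) = 4 * (X : ℤ) - 1 := by
          rw [Nat.cast_sub (by omega)]; push_cast; ring
        push_cast [h3] at h2 h
        have h4 : (3 : ℤ) * ((n : ℤ) * (2 * X + 1)) ≤ 3 * (H.index : ℤ) := by
          linarith only [hX16, h, h2]
        have h5 : ((n * (2 * X + 1) : ℕ) : ℤ) ≤ (H.index : ℤ) := by
          push_cast
          linarith only [h, h2]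
        exact_mod_cast h5
      · have hXZ : (2 : ℤ) ^ (n - 2) = (X : ℤ) := by rw [hX]; push_cast; rfl
        rw [hXZ] at h
        have h2 : ((3 * (n * (2 * X + 1)) : ℕ) : ℤ) ≤ ((2 * X * (4 * X - 1) : ℕ) : ℤ) := by exact_mod_cast hmain
        have h3 : ((4 * X - 1 : ℕ) : ℤ) = 4 * (X : ℤ) - 1 := by
          rw [Nat.cast_sub (by omega)]; push_cast; ring
        push_cast [h3] at h2 h
        have h4 : (3 : ℤ) * ((n : ℤ) * (2 * X + 1)) ≤ 3 * (H.index : ℤ) := by
          linarith only [h, h2]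
        have h5 : ((n * (2 * X + 1) : ℕ) : ℤ) ≤ (H.index : ℤ) := by
          push_cast
          linarith only [h, h2]
        exact_mod_cast h5

end su

end Cfsg.Agent.H409.Cyc
end

-- part: H409/FprCycO
section
/-!
# Cyclic Sylow subgroups: orthogonal groups
-/

set_option autoImplicit false
set_option linter.unusedSectionVars false

namespace Cfsg.Agent.H409.Cyc

open Module Subgroup QuadraticMap
open Cfsg.Agent.LieClassical.OrthCore Cfsg.Agent.LieClassical.OrthTrans

section conic

variable {F : Type*} [Field F] [Fintype F]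

theorem conic_card (c β γ : F) (hc : c ≠ 0) (hd : β ^ 2 - 4 * c * γ ≠ 0)
    (S : Finset (F × F)) (hS : ∀ p ∈ S, c * p.1 ^ 2 + β * p.1 * p.2 + γ * p.2 ^ 2 = c) :
    S.card ≤ Fintype.card F + 1 := by
  classical
  let f : F × F → Option F := fun p => if p.1 = 1 ∧ p.2 = 0 then none else
    if p.2 = 0 then some (-β / (2 * c)) else some ((p.1 - 1) / p.2)
  have key : ∀ s : F, s ^ 2 * c + s * β + γ = 0 → 2 * s * c + β ≠ 0 := by
    intro s h1 h2
    apply hd
    linear_combination (2 * s * c + β) * h2 - 4 * c * h1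
  -- the equation of a point off the axis
  have eqn : ∀ p ∈ S, p.2 ≠ 0 → ∀ s : F, (p.1 - 1) / p.2 = s →
      2 * s * c + β + p.2 * (s ^ 2 * c + s * β + γ) = 0 := by
    intro p hp h2 s hs
    have h1 := hS p hp
    have h3 : p.1 = 1 + s * p.2 := by
      rw [← hs, div_mul_cancel₀ _ h2]; ring
    rw [h3] at h1
    apply mul_left_cancel₀ h2
    linear_combination h1
  have axis : ∀ p ∈ S, p.2 = 0 → ¬ (p.1 = 1 ∧ p.2 = 0) → p.1 = -1 ∧ (2 : F) ≠ 0 := by
    intro p hp h2 h3
    have h1 := hS p hp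
    rw [h2] at h1
    have h4 : c * ((p.1 - 1) * (p.1 + 1)) = 0 := by linear_combination h1
    rcases mul_eq_zero.1 ((mul_eq_zero.1 h4).resolve_left hc) with h5 | h5
    · exact absurd ⟨sub_eq_zero.1 h5, h2⟩ h3
    · have h6 : p.1 = -1 := eq_neg_of_add_eq_zero_left h5
      refine ⟨h6, ?_⟩
      intro h7
      apply h3
      refine ⟨?_, h2⟩
      rw [h6]
      linear_combination -h7
  have h0 : S.card ≤ (Finset.univ : Finset (Option F)).card := by
    apply Finset.card_le_card_of_injOn f (fun _ _ => Finset.mem_univ _)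
    intro p hp p' hp' hpp
    have hpS : p ∈ S := hp
    have hpS' : p' ∈ S := hp'
    have f1 : ∀ p : F × F, (p.1 = 1 ∧ p.2 = 0) → f p = none := fun p h => if_pos h
    have f2 : ∀ p : F × F, ¬ (p.1 = 1 ∧ p.2 = 0) → p.2 = 0 → f p = some (-β / (2 * c)) := fun p h h' => by
      simp only [f]; rw [if_neg h, if_pos h']
    have f3 : ∀ p : F × F, p.2 ≠ 0 → f p = some ((p.1 - 1) / p.2) := fun p h => by
      simp only [f]; rw [if_neg (fun h' => h h'.2), if_neg h]
    have mix : ∀ p ∈ S, ∀ p' ∈ S, ¬ (p.1 = 1 ∧ p.2 = 0) → p.2 = 0 → p'.2 ≠ 0 →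
        (-β / (2 * c)) = (p'.1 - 1) / p'.2 → False := by
      intro p hp p' hp' h1 h2 h3 h4
      obtain ⟨-, h5⟩ := axis p hp h2 h1
      have h6 := eqn p' hp' h3 _ h4.symm
      have h7 : 2 * (-β / (2 * c)) * c + β = 0 := by field_simp; ring
      rw [h7, zero_add] at h6
      exact key _ ((mul_eq_zero.1 h6).resolve_left h3) h7
    by_cases hA : p.1 = 1 ∧ p.2 = 0
    · by_cases hA' : p'.1 = 1 ∧ p'.2 = 0
      · exact Prod.ext (hA.1.trans hA'.1.symm) (hA.2.trans hA'.2.symm)
      · exfalso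
        rw [f1 p hA] at hpp
        by_cases hB' : p'.2 = 0
        · rw [f2 p' hA' hB'] at hpp; exact Option.some_ne_none _ hpp.symm
        · rw [f3 p' hB'] at hpp; exact Option.some_ne_none _ hpp.symm
    · by_cases hA' : p'.1 = 1 ∧ p'.2 = 0
      · exfalso
        rw [f1 p' hA'] at hpp
        by_cases hB : p.2 = 0
        · rw [f2 p hA hB] at hpp; exact Option.some_ne_none _ hpp
        · rw [f3 p hB] at hpp; exact Option.some_ne_none _ hpp
      · by_cases hB : p.2 = 0
        · by_cases hB' : p'.2 = 0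
          · exact Prod.ext ((axis p hpS hB hA).1.trans (axis p' hpS' hB' hA').1.symm) (hB.trans hB'.symm)
          · rw [f2 p hA hB, f3 p' hB'] at hpp
            exact (mix p hpS p' hpS' hA hB hB' (Option.some.inj hpp)).elim
        · by_cases hB' : p'.2 = 0
          · rw [f2 p' hA' hB', f3 p hB] at hpp
            exact (mix p' hpS' p hpS hA' hB' hB (Option.some.inj hpp).symm).elim
          · rw [f3 p hB, f3 p' hB'] at hpp
            have h8 := Option.some.inj hpp
            have e1 := eqn p hpS hB _ rfl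
            have e2 := eqn p' hpS' hB' _ h8.symm
            have h9 : p.1 - 1 = (p.1 - 1) / p.2 * p.2 := by rw [div_mul_cancel₀ _ hB]
            have h10 : p'.1 - 1 = (p.1 - 1) / p.2 * p'.2 := by rw [h8, div_mul_cancel₀ _ hB']
            obtain ⟨s, hs⟩ : ∃ s, s = (p.1 - 1) / p.2 := ⟨_, rfl⟩
            rw [← hs] at e1 e2 h9 h10
            have e3 : (p.2 - p'.2) * (s ^ 2 * c + s * β + γ) = 0 := by linear_combination e1 - e2
            have e4 : s ^ 2 * c + s * β + γ ≠ 0 := by
              intro h11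
              rw [h11, mul_zero, add_zero] at e1
              exact key s h11 e1
            have e5 : p.2 = p'.2 := sub_eq_zero.1 ((mul_eq_zero.1 e3).resolve_right e4)
            refine Prod.ext ?_ e5
            rw [e5] at h9
            exact sub_left_injective (h9.trans h10.symm)
  rwa [Finset.card_univ, Fintype.card_option] at h0

variable {V : Type*} [AddCommGroup V] [Module F V] [Finite V]

theorem plane_card (Q : QuadraticForm F V) (W : Submodule F V) (hW : finrank F W = 2)
    (hnd : ∀ w ∈ W, (∀ w' ∈ W, polar Q w' w = 0) → w = 0) {w0 : V} (hw0 : w0 ∈ W) (hQ0 : Q w0 ≠ 0) :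
    {w : V | w ∈ W ∧ Q w = Q w0}.ncard ≤ Fintype.card F + 1 := by
  classical
  have hfd : Module.Finite F V := Module.Finite.of_finite
  have h00 : w0 ≠ 0 := by
    rintro rfl
    exact hQ0 (QuadraticMap.map_zero Q)
  obtain ⟨w1, hw1, hn⟩ : ∃ w1 ∈ W, w1 ∉ Submodule.span F {w0} := by
    by_contra hcon
    push Not at hcon
    have h1 : W ≤ Submodule.span F {w0} := hcon
    have h2 := Submodule.finrank_mono h1
    rw [hW, finrank_span_singleton h00] at h2
    omega
  have hli : LinearIndependent F ![w0, w1] := by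
    rw [LinearIndependent.pair_iff' h00]
    intro a ha
    exact hn (ha ▸ Submodule.smul_mem _ a (Submodule.mem_span_singleton_self w0))
  have hspan : W = Submodule.span F {w0, w1} := by
    symm
    apply Submodule.eq_of_le_of_finrank_eq
    · rw [Submodule.span_le]
      rintro v (rfl | rfl)
      · exact hw0
      · exact hw1
    · have h1 := finrank_span_eq_card hli
      rw [Matrix.range_cons_cons_empty, Fintype.card_fin] at h1
      rw [h1, hW]
  have hQ : ∀ a b : F, Q (a • w0 + b • w1) = Q w0 * a ^ 2 + polar Q w0 w1 * a * b + Q w1 * b ^ 2 := by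
    intro a b
    rw [Q_add, QuadraticMap.map_smul, QuadraticMap.map_smul, polar_smul_left, polar_smul_right]
    simp only [smul_eq_mul]
    ring
  have hd : polar Q w0 w1 ^ 2 - 4 * Q w0 * Q w1 ≠ 0 := by
    intro h1
    have h2 : polar Q w0 w1 • w0 - (2 * Q w0) • w1 = 0 := by
      apply hnd _ (W.sub_mem (W.smul_mem _ hw0) (W.smul_mem _ hw1))
      intro w' hw'
      rw [hspan, Submodule.mem_span_pair] at hw'
      obtain ⟨a, b, rfl⟩ := hw'
      rw [polar_add_left, polar_smul_left, polar_smul_left, polar_sub_right, polar_sub_right,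
        polar_smul_right, polar_smul_right, polar_smul_right, polar_smul_right, polar_self', polar_self',
        polar_comm Q w1 w0]
      simp only [smul_eq_mul]
      linear_combination b * h1
    have h3 := LinearIndependent.pair_iff.1 hli (polar Q w0 w1) (-(2 * Q w0)) (by
      rw [neg_smul, ← sub_eq_add_neg]; exact h2)
    obtain ⟨h4, h5⟩ := h3
    have h5' : 2 * Q w0 = 0 := neg_eq_zero.1 h5
    apply h00
    apply hnd _ hw0
    intro w' hw'
    rw [hspan, Submodule.mem_span_pair] at hw'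
    obtain ⟨a, b, rfl⟩ := hw'
    rw [polar_add_left, polar_smul_left, polar_smul_left, polar_self', polar_comm Q w1 w0, h4, h5']
    simp
  let S : Finset (F × F) := Finset.univ.filter (fun p => Q (p.1 • w0 + p.2 • w1) = Q w0)
  have h1 := conic_card (Q w0) (polar Q w0 w1) (Q w1) hQ0 hd S (by
    intro p hp
    rw [← hQ]
    exact (Finset.mem_filter.1 hp).2)
  refine le_trans ?_ h1
  have h2 : {w : V | w ∈ W ∧ Q w = Q w0} ⊆ ((S.image (fun p : F × F => p.1 • w0 + p.2 • w1) : Finset V) : Set V) := by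
    rintro w ⟨hw, hwQ⟩
    rw [hspan, Submodule.mem_span_pair] at hw
    obtain ⟨a, b, rfl⟩ := hw
    rw [Finset.coe_image]
    exact ⟨(a, b), Finset.mem_coe.2 (Finset.mem_filter.2 ⟨Finset.mem_univ _, hwQ⟩), rfl⟩
  refine (Set.ncard_le_ncard h2 (Set.toFinite _)).trans ?_
  rw [Set.ncard_coe_finset]
  exact Finset.card_image_le

end conic

section hyper

variable {F V : Type*} [Field F] [AddCommGroup V] [Module F V] [FiniteDimensional F V] {Q : QuadraticForm F V}

/-- an element of `Ω` fixing a hyperplane is trivial -/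
theorem eq_one_of_hyper (hG : Good Q) {g : V ≃ₗ[F] V} (hg : g ∈ E Q) (T : Submodule F V)
    (hT : finrank F V ≤ finrank F T + 1) (hgT : ∀ t ∈ T, g t = t) : g = 1 := by
  by_contra hne
  obtain ⟨v0, hv0⟩ : ∃ v0, g v0 ≠ v0 := by
    by_contra hcon
    push Not at hcon
    exact hne (LinearEquiv.ext hcon)
  have hgO : g ∈ O Q := E_le_O hg
  have hv0T : v0 ∉ T := fun h => hv0 (hgT v0 h)
  have hsup : T ⊔ Submodule.span F {v0} = ⊤ := by
    apply Submodule.eq_top_of_finrank_eq
    apply le_antisymm (Submodule.finrank_le _)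
    have h1 : T < T ⊔ Submodule.span F {v0} := by
      refine lt_of_le_of_ne le_sup_left ?_
      intro h
      apply hv0T
      rw [h]
      exact Submodule.mem_sup_right (Submodule.mem_span_singleton_self v0)
    have h2 := Submodule.finrank_lt_finrank_of_lt h1
    omega
  set n := g v0 - v0 with hn
  have hn0 : n ≠ 0 := sub_ne_zero.2 hv0
  have hnT : ∀ t ∈ T, polar Q t n = 0 := by
    intro t ht
    rw [hn, polar_sub_right]
    have h1 := polar_map hgO t v0
    rw [hgT t ht] at h1
    rw [h1, sub_self]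
  have hnv : polar Q v0 n = -Q n := by
    have h1 : Q (v0 + n) = Q v0 := by
      rw [hn, add_sub_cancel]
      exact hgO v0
    rw [Q_add] at h1
    linear_combination h1
  have hQn : Q n ≠ 0 := by
    intro h0
    apply hn0
    apply hG.nondeg
    intro y
    have hy : y ∈ T ⊔ Submodule.span F {v0} := by rw [hsup]; trivial
    obtain ⟨t, ht, s, hs, rfl⟩ := Submodule.mem_sup.1 hy
    obtain ⟨a, rfl⟩ := Submodule.mem_span_singleton.1 hs
    rw [polar_comm, polar_add_left, polar_smul_left, hnT t ht, hnv, h0]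
    simp
  have href : g = refl Q n hQn := by
    apply LinearEquiv.ext
    intro y
    have hy : y ∈ T ⊔ Submodule.span F {v0} := by rw [hsup]; trivial
    obtain ⟨t, ht, s, hs, rfl⟩ := Submodule.mem_sup.1 hy
    obtain ⟨a, rfl⟩ := Submodule.mem_span_singleton.1 hs
    rw [map_add, map_smul, map_add, map_smul, hgT t ht, refl_apply, refl_apply, polar_comm Q n t, hnT t ht,
      polar_comm Q n v0, hnv]
    have h1 : (Q n)⁻¹ * -Q n = -1 := by field_simp
    rw [h1]
    have h2 : g v0 = v0 + n := by rw [hn]; abel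
    rw [h2]
    simp
  have hcomm : g ∈ ⁅O Q, O Q⁆ := by rw [hG.commutator_eq_E]; exact hg
  by_cases h2 : (2 : F) = 0
  · have h3 := Cfsg.Agent.H141.SpinFacts.even_rk_of_mem h2 hG.nondeg hcomm
    rw [href, Cfsg.Agent.H141.SpinFacts.rk_refl hG.nondeg hQn] at h3
    exact absurd h3 (by decide)
  · have h1 : ⁅O Q, O Q⁆ ≤ (LinearEquiv.det (R := F) (M := V)).ker := by
      rw [Subgroup.commutator_le]
      intro a _ b _
      rw [MonoidHom.mem_ker, map_commutatorElement, commutatorElement_eq_one_iff_mul_comm, mul_comm]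
    have h3 : LinearEquiv.det g = 1 := h1 hcomm
    rw [href, Cfsg.Agent.H160.QSpin.det_refl hQn] at h3
    apply h2
    have h4 := congrArg Units.val h3
    simp only [Units.val_neg, Units.val_one] at h4
    linear_combination -h4

end hyper

section om

variable {F V : Type*} [Field F] [Fintype F] [AddCommGroup V] [Module F V] [Finite V] {Q : QuadraticForm F V}

/-- the natural representation -/
noncomputable def rhoE (Q : QuadraticForm F V) : E Q →* Module.End F V where
  toFun g := ((g : V ≃ₗ[F] V) : V →ₗ[F] V)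
  map_one' := rfl
  map_mul' _ _ := rfl

theorem rhoE_inj : Function.Injective (rhoE Q) := by
  intro a b hab
  apply Subtype.ext
  apply LinearEquiv.ext
  intro v
  exact LinearMap.congr_fun hab v

theorem isForm_E (hQ : Nondeg Q) : Form (fun u v : V => polar Q u v) (fun a : F => a) where
  add_l u v w := polar_add_left Q u v w
  add_r u v w := polar_add_right Q u v w
  smul_l a u v := by rw [polar_smul_left, smul_eq_mul]
  smul_r a u v := by rw [polar_smul_right, smul_eq_mul]
  inv a := rfl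
  nd v hv := hQ v (fun y => by rw [polar_comm]; exact hv y)

theorem formE_inv (g : E Q) (u v : V) : polar Q (rhoE Q g u) (rhoE Q g v) = polar Q u v :=
  polar_map (E_le_O g.2) u v

variable {p e : ℕ} {x : E Q}

theorem perp_UU {w : V} (hw : rhoE Q x w = w) {u : V} (hu : u ∈ UU (rhoE Q) x) : polar Q u w = 0 := by
  obtain ⟨v, rfl⟩ := hu
  rw [LinearMap.sub_apply, Module.End.one_apply, polar_sub_left]
  have h1 := formE_inv x v w
  rw [hw] at h1
  rw [h1, sub_self]

theorem sup_ker (h : Sit (rhoE Q) p e x) : UU (rhoE Q) x ⊔ LinearMap.ker (rhoE Q x - 1) = ⊤ := by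
  have hfd : Module.Finite F V := Module.Finite.of_finite
  have hdisj : UU (rhoE Q) x ⊓ LinearMap.ker (rhoE Q x - 1) = ⊥ := by
    rw [eq_bot_iff]
    rintro w ⟨hw1, hw2⟩
    rw [SetLike.mem_coe, LinearMap.mem_ker, LinearMap.sub_apply, Module.End.one_apply, sub_eq_zero] at hw2
    rw [Submodule.mem_bot]
    exact h.disj hw1 hw2
  apply Submodule.eq_top_of_finrank_eq
  have h1 := Submodule.finrank_sup_add_finrank_inf_eq (UU (rhoE Q) x) (LinearMap.ker (rhoE Q x - 1))
  rw [hdisj, finrank_bot, add_zero] at h1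
  rw [h1]
  exact LinearMap.finrank_range_add_finrank_ker (rhoE Q x - 1)

theorem mem_kerE {w : V} : w ∈ LinearMap.ker (rhoE Q x - 1) ↔ rhoE Q x w = w := by
  rw [LinearMap.mem_ker, LinearMap.sub_apply, Module.End.one_apply, sub_eq_zero]

/-- one-dimensional (or trivial) fixed space -/
theorem E_cent_one (hG : Good Q) (h : Sit (rhoE Q) p e x) (hd : finrank F V ≤ e + 1) {s : ℕ}
    (hs : s ^ 2 = Fintype.card F ^ e) : Nat.card (centralizer ({x} : Set (E Q))) ≤ (s + 1) * 1 := by
  have hfd : Module.Finite F V := Module.Finite.of_finite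
  have : Finite (E Q) := Finite.of_injective (fun g : E Q => ((g : V ≃ₗ[F] V) : V → V)) (by
    intro a b hab
    exact Subtype.ext (DFunLike.coe_injective hab))
  refine h.card_centralizer_le (isForm_E hG.nondeg) formE_inv hs ?_
  rw [Set.ncard_le_one_iff]
  have key : ∀ c : E Q, (∀ u ∈ UU (rhoE Q) x, rhoE Q c u = u) → c = 1 := by
    intro c hc
    apply Subtype.ext
    apply eq_one_of_hyper hG c.2 (UU (rhoE Q) x) (by rw [h.finrank_UU]; exact hd) hc
  rintro a b ⟨-, ha⟩ ⟨-, hb⟩
  rw [key a ha, key b hb]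

/-- two-dimensional fixed space -/
theorem E_cent_two (hG : Good Q) (h : Sit (rhoE Q) p e x) (hd : finrank F V = e + 2) {s : ℕ}
    (hs : s ^ 2 = Fintype.card F ^ e) :
    Nat.card (centralizer ({x} : Set (E Q))) ≤ (s + 1) * (Fintype.card F + 1) := by
  have hfd : Module.Finite F V := Module.Finite.of_finite
  have : Finite (E Q) := Finite.of_injective (fun g : E Q => ((g : V ≃ₗ[F] V) : V → V)) (by
    intro a b hab
    exact Subtype.ext (DFunLike.coe_injective hab))
  refine h.card_centralizer_le (isForm_E hG.nondeg) formE_inv hs ?_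
  let W : Submodule F V := LinearMap.ker (rhoE Q x - 1)
  have hW : finrank F W = 2 := by
    have h1 := LinearMap.finrank_range_add_finrank_ker (rhoE Q x - 1)
    have h2 := h.finrank_UU
    have h3 : finrank F (LinearMap.range (rhoE Q x - 1)) = e := h2
    have h4 : finrank F W = finrank F (LinearMap.ker (rhoE Q x - 1)) := rfl
    omega
  have hnd : ∀ w ∈ W, (∀ w' ∈ W, polar Q w' w = 0) → w = 0 := by
    intro w hw hw'
    apply hG.nondeg
    intro y
    have hy : y ∈ UU (rhoE Q) x ⊔ LinearMap.ker (rhoE Q x - 1) := by rw [sup_ker h]; trivial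
    obtain ⟨u, hu, z, hz, rfl⟩ := Submodule.mem_sup.1 hy
    rw [polar_comm, polar_add_left, perp_UU (mem_kerE.1 hw) hu, hw' z hz, add_zero]
  obtain ⟨w0, hw0, hQ0⟩ : ∃ w0 ∈ W, Q w0 ≠ 0 := by
    by_contra hcon
    push Not at hcon
    have h1 : W = ⊥ := by
      rw [eq_bot_iff]
      intro w hw
      rw [Submodule.mem_bot]
      apply hnd w hw
      intro w' hw'
      rw [polar, hcon _ (W.add_mem hw' hw), hcon _ hw', hcon _ hw]
      simp
    rw [h1, finrank_bot] at hW
    omega
  refine le_trans ?_ (plane_card Q W hW hnd hw0 hQ0)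
  apply Set.ncard_le_ncard_of_injOn (fun c : E Q => (c : V ≃ₗ[F] V) w0) _ _ (Set.toFinite _)
  · rintro c ⟨hc, -⟩
    refine ⟨?_, E_le_O c.2 w0⟩
    have h1 : c * x = x * c := mem_centralizer_singleton_iff.1 hc
    apply mem_kerE.2
    have h2 : rhoE Q (x * c) w0 = rhoE Q (c * x) w0 := by rw [h1]
    rw [rho_mul_apply, rho_mul_apply, mem_kerE.1 hw0] at h2
    exact h2
  · rintro a ⟨-, ha⟩ b ⟨-, hb⟩ hab
    have hab' : rhoE Q a w0 = rhoE Q b w0 := hab
    have key : b⁻¹ * a = 1 := by
      apply Subtype.ext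
      apply eq_one_of_hyper hG (b⁻¹ * a).2 (UU (rhoE Q) x ⊔ Submodule.span F {w0})
      · have hlt : UU (rhoE Q) x < UU (rhoE Q) x ⊔ Submodule.span F {w0} := by
          refine lt_of_le_of_ne le_sup_left ?_
          intro h1
          have h2 : w0 ∈ UU (rhoE Q) x := by
            rw [h1]; exact Submodule.mem_sup_right (Submodule.mem_span_singleton_self w0)
          have h3 := h.disj h2 (mem_kerE.1 hw0)
          apply hQ0
          rw [h3]
          exact QuadraticMap.map_zero Q
        have h4 := Submodule.finrank_lt_finrank_of_lt hlt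
        rw [h.finrank_UU] at h4
        omega
      · intro t ht
        have h5 : ∀ t : V, rhoE Q a t = rhoE Q b t → rhoE Q (b⁻¹ * a) t = t := by
          intro t ht
          rw [rho_mul_apply, ht, rho_inv_apply]
        change rhoE Q (b⁻¹ * a) t = t
        obtain ⟨u, hu, z, hz, rfl⟩ := Submodule.mem_sup.1 ht
        obtain ⟨r, rfl⟩ := Submodule.mem_span_singleton.1 hz
        rw [map_add, map_smul, h5 u ((ha u hu).trans (hb u hu).symm), h5 w0 hab']
    exact (inv_mul_eq_one.1 key).symm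

theorem center_sq_E (hG : Good Q) {z : E Q} (hz : z ∈ center (E Q)) : z ^ 2 = 1 := by
  obtain ⟨c, hc⟩ := Cfsg.Agent.H75.OrthIdx.center_scalar hG hz
  obtain ⟨v, w, hvw⟩ := hG.exists_hyp
  have h1 := polar_map (E_le_O z.2) v w
  rw [hc, hc, polar_smul_left, polar_smul_right, hvw.pair] at h1
  simp only [smul_eq_mul, mul_one] at h1
  apply Subtype.ext
  apply LinearEquiv.ext
  intro y
  rw [pow_two]
  change (z : V ≃ₗ[F] V) ((z : V ≃ₗ[F] V) y) = y
  rw [hc, hc, smul_smul, h1, one_smul]

end om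

section row

variable {F : Type*} [Field F] [Fintype F] {ι : Type} [Fintype ι] [DecidableEq ι] {Q : QuadraticForm F (ι → F)}

theorem row_om_card {p e : ℕ} [hp : Fact p.Prime] (hodd : p ≠ 2) (hG : Good Q) (hch : (p : F) ≠ 0)
    (he : ∀ k, p ∣ Fintype.card F ^ k - 1 → e ∣ k) (hdim : finrank F (ι → F) < 2 * e)
    (hpS : p ∣ Nat.card (Cfsg.POmega F ⇑Q)) {c : ℕ}
    (hC : ∀ x : E Q, Sit (rhoE Q) p e x → Nat.card (centralizer ({x} : Set (E Q))) ≤ c) {L : ℕ}
    (hL : ∀ H : Subgroup (Cfsg.POmega F ⇑Q), H ≠ ⊤ → L ≤ H.index)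
    (hnum : (p + 1) * (e * c) ≤ p * (Nat.card (center (E Q)) * L)) : FprRow (p + 1) 1 p (Cfsg.POmega F ⇑Q) := by
  classical
  have : Finite (E Q) := Finite.of_injective (fun g : E Q => ((g : (ι → F) ≃ₗ[F] (ι → F)) : (ι → F) → (ι → F))) (by
    intro a b hab
    exact Subtype.ext (DFunLike.coe_injective hab))
  have hsurj := Cfsg.Agent.H75.OrthIdx.omHom_surjective hG
  have hker := Cfsg.Agent.H75.OrthIdx.omHom_ker hG
  have : Finite (Cfsg.POmega F ⇑Q) := Finite.of_surjective _ hsurj
  have hpG : p ∣ Nat.card (E Q) := hpS.trans (Subgroup.card_dvd_of_surjective _ hsurj)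
  refine row_of_lin (S := Cfsg.POmega F ⇑Q) (F := F) (ρ := rhoE Q) (p := p) (e := e) hodd rhoE_inj hch he hdim hpG
    (Cfsg.Agent.H75.OrthIdx.omHom hG) hsurj (by rw [hker]) (by
      rw [hker]
      exact not_dvd_of_sq hodd _ (fun z hz => center_sq_E hG hz)) (c := c)
    (fun x hx => hC x ⟨rhoE_inj, hx, hp.out, hodd, hch, he, hdim⟩) (L := L) hL ?_
  rw [hker]
  exact hnum

/-- the order of `q` modulo `p` is less than `p` -/
theorem succ_le_of_he {p e : ℕ} [hp : Fact p.Prime] (hch : (p : F) ≠ 0)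
    (he : ∀ k, p ∣ Fintype.card F ^ k - 1 → e ∣ k) : e + 1 ≤ p := by
  refine lt_of_he hp.out ?_ he
  intro h
  apply hch
  obtain ⟨r, hr⟩ := CharP.exists F
  have hrp : r.Prime := CharP.char_is_prime F r
  obtain ⟨n, -, hn⟩ := FiniteField.card F r
  rw [hn] at h
  have h1 := (Nat.prime_dvd_prime_iff_eq hp.out hrp).1 (hp.out.dvd_of_dvd_pow h)
  rw [h1]
  exact CharP.cast_eq_zero F r

theorem row_om {p e : ℕ} [hp : Fact p.Prime] (hodd : p ≠ 2) (hG : Good Q) (hch : (p : F) ≠ 0)
    (he : ∀ k, p ∣ Fintype.card F ^ k - 1 → e ∣ k) (hdim : finrank F (ι → F) < 2 * e)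
    (hpS : p ∣ Nat.card (Cfsg.POmega F ⇑Q)) {c : ℕ}
    (hC : ∀ x : E Q, Sit (rhoE Q) p e x → Nat.card (centralizer ({x} : Set (E Q))) ≤ c) {L : ℕ}
    (hL : ∀ H : Subgroup (Cfsg.POmega F ⇑Q), H ≠ ⊤ → L ≤ H.index)
    (hnum : (e + 1) * c ≤ L) : FprRow (p + 1) 1 p (Cfsg.POmega F ⇑Q) := by
  refine row_om_card hodd hG hch he hdim hpS hC hL ?_
  have : Finite (E Q) := Finite.of_injective (fun g : E Q => ((g : (ι → F) ≃ₗ[F] (ι → F)) : (ι → F) → (ι → F))) (by
    intro a b hab
    exact Subtype.ext (DFunLike.coe_injective hab))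
  have hpe := succ_le_of_he hch he
  have h1 : 1 ≤ Nat.card (center (E Q)) := Nat.card_pos
  have h2 : (p + 1) * e ≤ p * (e + 1) := by linarith only [hpe]
  calc (p + 1) * (e * c) = (p + 1) * e * c := by ring
    _ ≤ p * (e + 1) * c := Nat.mul_le_mul_right _ h2
    _ = p * (1 * ((e + 1) * c)) := by ring
    _ ≤ _ := Nat.mul_le_mul_left _ (Nat.mul_le_mul h1 hnum)

end row

end Cfsg.Agent.H409.Cyc
end

-- part: H409/FprCycOm
section
/-!
# Cyclic Sylow subgroups: the rows of the orthogonal groups (generic part)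
-/

set_option autoImplicit false
set_option linter.unusedSectionVars false

namespace Cfsg.Agent.H409.Cyc

open Module Subgroup QuadraticMap
open Cfsg.Agent.LieClassical.OrthCore Cfsg.Agent.LieClassical.OrthTrans Cfsg.Agent.LieClassical.OrthForms

variable {F : Type*} [Field F] [Fintype F] {m : ℕ}

theorem two_le_q : 2 ≤ Fintype.card F := Fintype.one_lt_card

theorem num_a {q m : ℕ} (hq : 2 ≤ q) (hm : 3 ≤ m) : (2 * m + 1) * (q - 1) ≤ q ^ m - 1 := by
  obtain ⟨k, rfl⟩ : ∃ k, m = 3 + k := ⟨m - 3, by omega⟩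
  have h := geom_le (Q := q) (a := 7) (b := 3) hq (by
    obtain ⟨t, ht⟩ : ∃ t, q = t + 1 := ⟨q - 1, by omega⟩
    subst ht
    rw [Nat.add_sub_cancel]
    have h2 : (t + 1) ^ 3 = t * t * t + 3 * (t * t) + 3 * t + 1 := by ring
    rw [h2, Nat.add_sub_cancel]
    have : 1 ≤ t := by omega
    nlinarith only [hq]) k 2 (by norm_num)
  have h1 : 2 * (3 + k) + 1 = 7 + 2 * k := by ring
  rw [h1]
  exact h

theorem sq_sub (q m : ℕ) : q ^ (2 * m) - 1 = (q ^ m + 1) * (q ^ m - 1) := by
  have := Nat.sq_sub_sq (q ^ m) 1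
  rw [one_pow, ← pow_mul, mul_comm m 2] at this
  exact this

/-- **Odd-dimensional orthogonal groups, `p ∣ q ^ m + 1`.** -/
theorem row_odd {p : ℕ} [hp : Fact p.Prime] (hodd : p ≠ 2) (hm : 3 ≤ m) (hFo : Odd (Fintype.card F))
    (hch : (p : F) ≠ 0) (he : ∀ k, p ∣ Fintype.card F ^ k - 1 → 2 * m ∣ k)
    (hpS : p ∣ Nat.card (Cfsg.POmega F (Cfsg.quadFormOdd m F))) :
    FprRow (p + 1) 1 p (Cfsg.POmega F (Cfsg.quadFormOdd m F)) := by
  have h2 : (2 : F) ≠ 0 := by
    intro h
    have h3 : CharP F 2 := CharTwo.of_one_ne_zero_of_two_eq_zero one_ne_zero h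
    have h4 := FiniteField.even_card_of_char_two (F := F) (ringChar.eq_iff.2 h3)
    rcases hFo with ⟨k, hk⟩
    omega
  have hC := Cfsg.Agent.H75.OrthIdx.odd_count (F := F) m hm h2
  have hG := Cfsg.Agent.H75.OrthIdx.good_oddForm (F := F) m hm h2
  have hcent : ∀ x : E (oddForm m F), Sit (rhoE (oddForm m F)) p (2 * m) x →
      Nat.card (centralizer ({x} : Set (E (oddForm m F)))) ≤ (Fintype.card F ^ m + 1) * 1 := fun x hx =>
    E_cent_one hG hx (by rw [hC.finrank]) (by rw [← pow_mul, mul_comm])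
  obtain ⟨q, hq⟩ : ∃ q, Fintype.card F = q := ⟨_, rfl⟩
  have hq2 : 2 ≤ q := hq ▸ two_le_q
  rw [hq] at hFo hcent
  rcases Nat.lt_or_ge q 5 with h5 | h5
  · have hq3 : q = 3 := by
      rcases hFo with ⟨k, hk⟩
      omega
    subst hq3
    have hL := (Cfsg.Agent.S2144.result hq m hm).1
    rw [← coe_oddForm] at hL hpS ⊢
    refine row_om hodd hG hch he (by rw [hC.finrank]; omega) hpS hcent hL ?_
    rw [mul_one, Nat.le_div_iff_mul_le (by norm_num)]
    have h1 : (2 * m + 2) * 2 ≤ 3 ^ m - 1 := by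
      obtain ⟨k, rfl⟩ : ∃ k, m = 3 + k := ⟨m - 3, by omega⟩
      have h := geom_le (Q := 3) (a := 8) (b := 3) (by norm_num) (by norm_num) k 2 (by norm_num)
      have h1 : 2 * (3 + k) + 2 = 8 + 2 * k := by ring
      rw [h1]
      exact h
    have h3 : 27 ≤ 3 ^ m := by
      calc 27 = 3 ^ 3 := by norm_num
        _ ≤ 3 ^ m := Nat.pow_le_pow_right (by norm_num) hm
    obtain ⟨t, ht⟩ : ∃ t, 3 ^ m = t + 1 := ⟨3 ^ m - 1, by omega⟩
    rw [ht] at h1 h3 ⊢
    rw [Nat.add_sub_cancel] at h1 ⊢
    have h6 : (2 * m + 1) * (t + 1 + 1) * 2 = (2 * m + 1) * 2 * (t + 2) := by ring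
    rw [h6]
    obtain ⟨u, hu⟩ : ∃ u, t = u + 2 := ⟨t - 2, by omega⟩
    subst hu
    have h7 : (2 * m + 1) * 2 * (u + 2 + 2) ≤ u * (u + 2 + 2) := Nat.mul_le_mul_right _ (by omega)
    linarith only [h7]
  · have hL := (Cfsg.Agent.S2143.result hq hFo h5 m hm).1
    rw [← coe_oddForm] at hL hpS ⊢
    refine row_om hodd hG hch he (by rw [hC.finrank]; omega) hpS hcent hL ?_
    rw [mul_one, Nat.le_div_iff_mul_le (by omega), sq_sub]
    calc (2 * m + 1) * (q ^ m + 1) * (q - 1) = (q ^ m + 1) * ((2 * m + 1) * (q - 1)) := by ring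
      _ ≤ _ := Nat.mul_le_mul_left _ (num_a hq2 hm)

/-- **Orthogonal groups of minus type, `p ∣ q ^ m + 1`.** -/
theorem row_minus {p : ℕ} [hp : Fact p.Prime] (hodd : p ≠ 2) (hm : 4 ≤ m) {a b : F}
    (hab : ∀ z₁ z₂ : F, z₁ ^ 2 + a * z₁ * z₂ + b * z₂ ^ 2 = 0 → z₁ = 0 ∧ z₂ = 0)
    (hch : (p : F) ≠ 0) (he : ∀ k, p ∣ Fintype.card F ^ k - 1 → 2 * m ∣ k)
    (hpS : p ∣ Nat.card (Cfsg.POmega F (Cfsg.quadFormMinus (m - 1) F a b)))
    (hmq : 3 ≤ Fintype.card F ∨ 5 ≤ m) :
    FprRow (p + 1) 1 p (Cfsg.POmega F (Cfsg.quadFormMinus (m - 1) F a b)) := by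
  have hC := Cfsg.Agent.H76.Num.minusCount hab (m - 1) (by omega)
  have hG := Cfsg.Agent.H76.Num.good_minusForm hab (m - 1) (by omega)
  rw [Nat.sub_add_cancel (by omega : 1 ≤ m)] at hC
  have hcent : ∀ x : E (minusForm (m - 1) F a b), Sit (rhoE (minusForm (m - 1) F a b)) p (2 * m) x →
      Nat.card (centralizer ({x} : Set (E (minusForm (m - 1) F a b)))) ≤ (Fintype.card F ^ m + 1) * 1 := fun x hx =>
    E_cent_one hG hx (by rw [hC.finrank]; omega) (by rw [← pow_mul, mul_comm])
  obtain ⟨q, hq⟩ : ∃ q, Fintype.card F = q := ⟨_, rfl⟩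
  have hq2 : 2 ≤ q := hq ▸ two_le_q
  rw [hq] at hcent hmq
  have hL := (Cfsg.Agent.S2147.result hq m hm a b hab).1
  rw [← coe_minusForm] at hL hpS ⊢
  refine row_om hodd hG hch he (by rw [hC.finrank]; omega) hpS hcent hL ?_
  rw [mul_one, Nat.le_div_iff_mul_le (by omega)]
  have key : (2 * m + 1) * (q - 1) ≤ q ^ (m - 1) - 1 := by
    rcases Nat.lt_or_ge m 5 with h5 | h5
    · have hm4 : m = 4 := by omega
      subst hm4
      have hq3 : 3 ≤ q := by omega
      obtain ⟨t, ht⟩ : ∃ t, q = t + 1 := ⟨q - 1, by omega⟩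
      subst ht
      norm_num only [_root_.add_tsub_cancel_right, _root_.ge_iff_le]
      have h2 : (t + 1) ^ 3 = t * t * t + 3 * (t * t) + 3 * t + 1 := by ring
      rw [h2, Nat.add_sub_cancel]
      have : 2 ≤ t := by omega
      nlinarith only [Nat.mul_le_mul this this]
    · obtain ⟨k, rfl⟩ : ∃ k, m = 5 + k := ⟨m - 5, by omega⟩
      have h := geom_le (Q := q) (a := 11) (b := 4) hq2 (by
        obtain ⟨t, ht⟩ : ∃ t, q = t + 1 := ⟨q - 1, by omega⟩
        subst ht
        rw [Nat.add_sub_cancel]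
        have h2 : (t + 1) ^ 4 = t * t * (t * t) + 4 * (t * t * t) + 6 * (t * t) + 4 * t + 1 := by ring
        rw [h2, Nat.add_sub_cancel]
        have h3 : 1 ≤ t := by omega
        have h4 := Nat.mul_le_mul h3 h3
        nlinarith only [Nat.mul_le_mul h4 h3, Nat.mul_le_mul h4 h4]) k 2 (by norm_num)
      have h1 : 2 * (5 + k) + 1 = 11 + 2 * k := by ring
      have h3 : 5 + k - 1 = 4 + k := by omega
      rw [h1, h3]
      exact h
  calc (2 * m + 1) * (q ^ m + 1) * (q - 1) = (q ^ m + 1) * ((2 * m + 1) * (q - 1)) := by ring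
    _ ≤ _ := Nat.mul_le_mul_left _ key

/-- **Orthogonal groups of plus type, `p ∣ q ^ (m - 1) + 1`, `q ≠ 3`.** -/
theorem row_plus {p : ℕ} [hp : Fact p.Prime] (hodd : p ≠ 2) (hm : 4 ≤ m)
    (hch : (p : F) ≠ 0) (he : ∀ k, p ∣ Fintype.card F ^ k - 1 → 2 * m - 2 ∣ k)
    (hpS : p ∣ Nat.card (Cfsg.POmega F (Cfsg.quadFormPlus m F)))
    (hmq : 4 ≤ Fintype.card F ∨ (Fintype.card F = 2 ∧ 5 ≤ m)) :
    FprRow (p + 1) 1 p (Cfsg.POmega F (Cfsg.quadFormPlus m F)) := by
  have hC := Cfsg.Agent.H75.OrthIdx.plus_count (F := F) m hm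
  have hG := Cfsg.Agent.H75.OrthIdx.good_plusForm (F := F) m hm
  have hcent : ∀ x : E (plusForm m F), Sit (rhoE (plusForm m F)) p (2 * m - 2) x →
      Nat.card (centralizer ({x} : Set (E (plusForm m F)))) ≤
        (Fintype.card F ^ (m - 1) + 1) * (Fintype.card F + 1) := fun x hx =>
    E_cent_two hG hx (by rw [hC.finrank]; omega) (by rw [← pow_mul]; congr 1; omega)
  obtain ⟨q, hq⟩ : ∃ q, Fintype.card F = q := ⟨_, rfl⟩
  have hq2 : 2 ≤ q := hq ▸ two_le_q
  rw [hq] at hcent hmq
  rcases hmq with h4 | ⟨rfl, h5⟩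
  · have hL := (Cfsg.Agent.S2145.result hq h4 m hm).1
    rw [← coe_plusForm] at hL hpS ⊢
    refine row_om hodd hG hch he (by rw [hC.finrank]; omega) hpS hcent hL ?_
    rw [Nat.le_div_iff_mul_le (by omega)]
    have key : (2 * m - 2 + 1) * (q + 1) * (q - 1) ≤ q ^ m - 1 := by
      obtain ⟨k, rfl⟩ : ∃ k, m = 4 + k := ⟨m - 4, by omega⟩
      have h := geom_le (Q := q) (a := 7 * (q + 1)) (b := 4) hq2 (by
        obtain ⟨t, ht⟩ : ∃ t, q = t + 1 := ⟨q - 1, by omega⟩
        subst ht
        rw [Nat.add_sub_cancel]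
        have h2 : (t + 1) ^ 4 = t * t * (t * t) + 4 * (t * t * t) + 6 * (t * t) + 4 * t + 1 := by ring
        rw [h2, Nat.add_sub_cancel]
        have h3 : 3 ≤ t := by omega
        have h4 := Nat.mul_le_mul h3 h3
        nlinarith only [Nat.mul_le_mul h4 h3, Nat.mul_le_mul h4 h4]) k (2 * (q + 1)) (by omega)
      have h1 : 2 * (4 + k) - 2 + 1 = 7 + 2 * k := by omega
      rw [h1]
      calc (7 + 2 * k) * (q + 1) * (q - 1) = (7 * (q + 1) + 2 * (q + 1) * k) * (q - 1) := by ring
        _ ≤ _ := h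
    calc (2 * m - 2 + 1) * ((q ^ (m - 1) + 1) * (q + 1)) * (q - 1) =
        (2 * m - 2 + 1) * (q + 1) * (q - 1) * (q ^ (m - 1) + 1) := by ring
      _ ≤ _ := Nat.mul_le_mul_right _ key
  · have hL := (Cfsg.Agent.S2146.result hq m hm).1
    rw [← coe_plusForm] at hL hpS ⊢
    refine row_om hodd hG hch he (by rw [hC.finrank]; omega) hpS hcent hL ?_
    obtain ⟨k, rfl⟩ : ∃ k, m = 5 + k := ⟨m - 5, by omega⟩
    have h := geom_le (Q := 2) (a := 31) (b := 5) (by norm_num) (by norm_num) k 6 (by norm_num)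
    rw [show 5 + k - 1 = 4 + k by omega, show 2 * (5 + k) - 2 + 1 = 9 + 2 * k by omega]
    obtain ⟨X, hX⟩ : ∃ X, 2 ^ (4 + k) = X := ⟨_, rfl⟩
    have hX2 : 2 ^ (5 + k) = 2 * X := by rw [← hX]; ring
    rw [hX2] at h ⊢
    rw [hX]
    norm_num only [_root_.mul_one, _root_.ge_iff_le] at h ⊢
    obtain ⟨Y, hY⟩ : ∃ Y, X = Y + 1 := ⟨X - 1, by omega⟩
    subst hY
    have e1 : 2 * (Y + 1) - 1 = 2 * Y + 1 := by omega
    rw [e1] at h ⊢
    have h7 : 3 * (9 + 2 * k) + 3 ≤ 2 * Y := by omega
    nlinarith only [h]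

end Cfsg.Agent.H409.Cyc
end

-- part: H409/FprCycO3
section
/-!
# Cyclic Sylow subgroups: orthogonal groups of plus type over `F_3`
-/

set_option autoImplicit false
set_option linter.unusedSectionVars false

namespace Cfsg.Agent.H409.Cyc

open Module Subgroup QuadraticMap
open Cfsg.Agent.LieClassical.OrthCore Cfsg.Agent.LieClassical.OrthTrans Cfsg.Agent.LieClassical.OrthForms
open Cfsg.Agent.H75.OrthIdx Cfsg.Agent.H160.QSpin

section idx

variable {F V : Type*} [Field F] [AddCommGroup V] [Module F V] [Finite F] [FiniteDimensional F V]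
  {Q : QuadraticForm F V}

/-- **The orbit bound.** -/
theorem exists_vecSet_le (hG : Good Q) (hd : 6 ≤ finrank F V) {H : Subgroup (V ≃ₗ[F] V)} (hne : ¬ E Q ≤ H) :
    ∃ e f v : V, Hyp Q e f ∧ v ∉ Submodule.span F {e} ∧
      (VecSet Q e v).ncard ≤ Nat.card F * H.relIndex (E Q) := by
  classical
  have : Finite V := Module.finite_of_finite F
  have hQ := hG.nondeg
  obtain ⟨e, v0, heQ, hev0, hnot⟩ : ∃ e v0 : V, ∃ (h1 : Q e = 0) (h2 : polar Q e v0 = 0), sg Q e v0 ∉ H := by
    by_contra hcon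
    push Not at hcon
    apply hne
    rw [E, Subgroup.closure_le]
    rintro _ ⟨u, w, hu, hw, rfl⟩
    have := hcon u w hu hw
    rwa [sg_eq hu hw] at this
  have he0 : e ≠ 0 := by
    rintro rfl
    apply hnot
    have h1 : sg Q (0 : V) v0 = 1 := by
      rw [sg_eq heQ hev0]
      apply LinearEquiv.ext
      intro y
      rw [siegel_apply]
      simp
    rw [h1]
    exact H.one_mem
  obtain ⟨f, h⟩ := exists_hyp hQ heQ he0
  obtain ⟨p, hp, θ, hpF, hθ, hcard, hdd⟩ := exists_dual (F := F) (V := V) hQ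
  have hs := relIndex_rad_mul hQ he0 H
  have hge := relIndex_ge (e := e) heQ H
  set B := Bs Q H e with hB
  set D := dl Q θ B with hD
  set q := Nat.card F with hq
  have hq0 : 0 < q := Nat.card_pos
  have hV : Nat.card V = q ^ finrank F V := Module.natCard_eq_pow_finrank
  have hBlt : Nat.card B < q ^ (finrank F V - 1) := by
    have h1 : Nat.card (ep Q e) = q ^ (finrank F V - 1) := by
      rw [Module.natCard_eq_pow_finrank (K := F) (V := ep Q e)]
      have := finrank_ep hQ he0
      congr 1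
      omega
    rw [← h1]
    apply Set.ncard_lt_ncard (s := (B : Set V)) (t := (ep Q e : Set V)) _ (Set.toFinite _)
    refine ⟨fun y hy => mem_ep.2 hy.1, fun hcon => ?_⟩
    exact hnot (hcon (mem_ep.2 hev0 : v0 ∈ ep Q e)).2
  have hB0 : 0 < Nat.card B := Nat.card_pos
  have hDs : Nat.card D = q * H.relIndex (rad Q e) := by
    apply Nat.eq_of_mul_eq_mul_right hB0
    rw [hcard B, mul_assoc, hs, hV, ← pow_succ']
    congr 1
    omega
  have hs1 : 1 < H.relIndex (rad Q e) := by
    by_contra hcon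
    push Not at hcon
    have h2 := Nat.mul_le_mul_right (Nat.card B) hcon
    rw [hs, one_mul] at h2
    omega
  obtain ⟨v, hvD, hvn⟩ : ∃ v ∈ D, v ∉ Submodule.span F {e} := by
    by_contra hcon
    push Not at hcon
    have h1 : Nat.card D ≤ Nat.card (Submodule.span F {e}) :=
      Set.ncard_le_ncard (s := (D : Set V)) (t := (Submodule.span F {e} : Set V)) hcon (Set.toFinite _)
    rw [Module.natCard_eq_pow_finrank (K := F) (V := Submodule.span F {e}), finrank_span_singleton he0,
      pow_one, hDs, ← hq] at h1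
    have h2 : q * 2 ≤ q * H.relIndex (rad Q e) := Nat.mul_le_mul_left _ hs1
    omega
  refine ⟨e, f, v, h, hvn, ?_⟩
  have h1 := vec_bound hG hd h false (Nst Q H e) D (stab_dl h) hvD (dl_perp hθ heQ hvD) hvn
  have h2 : (VecSet Q e v ∩ (D : Set V)).ncard ≤ Nat.card D :=
    Set.ncard_le_ncard Set.inter_subset_right (Set.toFinite _)
  calc (VecSet Q e v).ncard ≤ (Nst Q H e).relIndex (Pst Q e) * (VecSet Q e v ∩ (D : Set V)).ncard := h1
    _ ≤ (Nst Q H e).relIndex (Pst Q e) * Nat.card D := Nat.mul_le_mul_left _ h2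
    _ = q * (H.relIndex (rad Q e) * (Nst Q H e).relIndex (Pst Q e)) := by rw [hDs]; ring
    _ ≤ q * H.relIndex (E Q) := Nat.mul_le_mul_left _ hge

theorem plus_idx_three (hG : Good Q) {m : ℕ} (hC : PlusCount Q m) (hq : Nat.card F = 3)
    {H : Subgroup (V ≃ₗ[F] V)} (hne : ¬ E Q ≤ H) :
    3 ^ (m - 2) * (3 ^ (m - 1) - 1) ≤ H.relIndex (E Q) := by
  have : Finite V := Module.finite_of_finite F
  have hm := hC.four
  obtain ⟨e, f, v, h, hvn, hle⟩ := exists_vecSet_le hG (by rw [hC.finrank]; omega) hne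
  obtain ⟨hK, hVS, -⟩ := hC.data hG.nondeg h rfl rfl
  rw [hq] at hK hVS hle
  obtain ⟨X, hX⟩ : ∃ X, 3 ^ (m - 2) = X := ⟨_, rfl⟩
  have hX1 : 3 ^ (m - 1) = 3 * X := by
    rw [← hX, ← pow_succ']; congr 1; omega
  rw [hX] at hK hVS
  rw [hX, hX1]
  have hX9 : 9 ≤ X := by
    rw [← hX]
    calc 9 = 3 ^ 2 := by norm_num
      _ ≤ _ := Nat.pow_le_pow_right (by norm_num) (by omega)
  have key : 3 * X * (3 * X - 1) ≤ (VecSet Q e v).ncard := by
    by_cases hv : Q v = 0
    · have h1 := hVS v hv
      obtain ⟨Y, hY⟩ : ∃ Y, 3 * X = Y + 1 := ⟨3 * X - 1, by omega⟩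
      rw [hY] at h1 ⊢
      rw [Nat.add_sub_cancel]
      norm_num at h1
      linarith only [h1]
    · have h1 := mul_le_ncard_vecSet h.left_ne h.left hv hK
      rw [hq] at h1
      omega
  have h2 := key.trans hle
  have h3 : 3 * (X * (3 * X - 1)) ≤ 3 * H.relIndex (E Q) := by
    calc 3 * (X * (3 * X - 1)) = 3 * X * (3 * X - 1) := by ring
      _ ≤ _ := h2
  omega

end idx

section hyper

variable {F V : Type*} [Field F] [AddCommGroup V] [Module F V] [FiniteDimensional F V] {Q : QuadraticForm F V}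

/-- an isometry fixing a hyperplane is trivial or a reflection -/
theorem refl_of_hyper (hQ : Nondeg Q) {g : V ≃ₗ[F] V} (hgO : g ∈ O Q) (T : Submodule F V)
    (hT : finrank F V ≤ finrank F T + 1) (hgT : ∀ t ∈ T, g t = t) (hne : g ≠ 1) :
    ∃ (n : V) (hn : Q n ≠ 0), g = refl Q n hn := by
  obtain ⟨v0, hv0⟩ : ∃ v0, g v0 ≠ v0 := by
    by_contra hcon
    push Not at hcon
    exact hne (LinearEquiv.ext hcon)
  have hv0T : v0 ∉ T := fun h => hv0 (hgT v0 h)
  have hsup : T ⊔ Submodule.span F {v0} = ⊤ := by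
    apply Submodule.eq_top_of_finrank_eq
    apply le_antisymm (Submodule.finrank_le _)
    have h1 : T < T ⊔ Submodule.span F {v0} := by
      refine lt_of_le_of_ne le_sup_left ?_
      intro h
      apply hv0T
      rw [h]
      exact Submodule.mem_sup_right (Submodule.mem_span_singleton_self v0)
    have h2 := Submodule.finrank_lt_finrank_of_lt h1
    omega
  set n := g v0 - v0 with hn
  have hn0 : n ≠ 0 := sub_ne_zero.2 hv0
  have hnT : ∀ t ∈ T, polar Q t n = 0 := by
    intro t ht
    rw [hn, polar_sub_right]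
    have h1 := polar_map hgO t v0
    rw [hgT t ht] at h1
    rw [h1, sub_self]
  have hnv : polar Q v0 n = -Q n := by
    have h1 : Q (v0 + n) = Q v0 := by
      rw [hn, add_sub_cancel]
      exact hgO v0
    rw [Q_add] at h1
    linear_combination h1
  have hQn : Q n ≠ 0 := by
    intro h0
    apply hn0
    apply hQ
    intro y
    have hy : y ∈ T ⊔ Submodule.span F {v0} := by rw [hsup]; trivial
    obtain ⟨t, ht, s, hs, rfl⟩ := Submodule.mem_sup.1 hy
    obtain ⟨a, rfl⟩ := Submodule.mem_span_singleton.1 hs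
    rw [polar_comm, polar_add_left, polar_smul_left, hnT t ht, hnv, h0]
    simp
  refine ⟨n, hQn, ?_⟩
  apply LinearEquiv.ext
  intro y
  have hy : y ∈ T ⊔ Submodule.span F {v0} := by rw [hsup]; trivial
  obtain ⟨t, ht, s, hs, rfl⟩ := Submodule.mem_sup.1 hy
  obtain ⟨a, rfl⟩ := Submodule.mem_span_singleton.1 hs
  rw [map_add, map_smul, map_add, map_smul, hgT t ht, refl_apply, refl_apply, polar_comm Q n t, hnT t ht,
    polar_comm Q n v0, hnv]
  have h1 : (Q n)⁻¹ * -Q n = -1 := by field_simp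
  rw [h1]
  have h2 : g v0 = v0 + n := by rw [hn]; abel
  rw [h2]
  simp

theorem eq_one_of_hyper_det (hQ : Nondeg Q) (h2 : (2 : F) ≠ 0) {g : V ≃ₗ[F] V} (hgO : g ∈ O Q)
    (hdet : LinearEquiv.det g = 1) (T : Submodule F V)
    (hT : finrank F V ≤ finrank F T + 1) (hgT : ∀ t ∈ T, g t = t) : g = 1 := by
  by_contra hne
  obtain ⟨n, hn, rfl⟩ := refl_of_hyper hQ hgO T hT hgT hne
  rw [det_refl hn] at hdet
  apply h2
  have h4 := congrArg Units.val hdet
  simp only [Units.val_neg, Units.val_one] at h4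
  linear_combination -h4

end hyper

section three

variable {F : Type*} [Field F] [Fintype F]

theorem tri (hF : Fintype.card F = 3) (c : F) : c = 0 ∨ c = 1 ∨ c = -1 := by
  classical
  have h2 : (1 : F) ≠ -1 := by
    intro h
    have h3 : (2 : F) = 0 := by linear_combination h
    have h4 := Nat.cast_card_eq_zero F
    rw [hF] at h4
    push_cast at h4
    have h5 : (1 : F) = 0 := by linear_combination h4 - h3
    exact one_ne_zero h5
  by_contra hcon
  push Not at hcon
  obtain ⟨h3, h4, h5⟩ := hcon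
  have h1 : ({0, 1, -1, c} : Finset F).card ≤ Fintype.card F := Finset.card_le_univ _
  rw [hF, Finset.card_insert_of_notMem, Finset.card_insert_of_notMem, Finset.card_insert_of_notMem,
    Finset.card_singleton] at h1
  · omega
  · rw [Finset.mem_singleton]; exact fun h => h5 h.symm
  · rw [Finset.mem_insert, Finset.mem_singleton]
    rintro (h | h)
    · exact h2 h
    · exact h4 h.symm
  · rw [Finset.mem_insert, Finset.mem_insert, Finset.mem_singleton]
    rintro (h | h | h)
    · exact one_ne_zero h.symm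
    · exact one_ne_zero (neg_eq_zero.1 h.symm)
    · exact h3 h.symm

theorem three_eq_zero (hF : Fintype.card F = 3) : (3 : F) = 0 := by
  have h4 := Nat.cast_card_eq_zero F
  rw [hF] at h4
  exact_mod_cast h4

theorem two_ne_three (hF : Fintype.card F = 3) : (2 : F) ≠ 0 := by
  intro h
  have h5 : (1 : F) = 0 := by linear_combination three_eq_zero hF - h
  exact one_ne_zero h5

variable {V : Type*} [AddCommGroup V] [Module F V] [Finite V]

theorem exists_norm (hF : Fintype.card F = 3) (Q : QuadraticForm F V) (W : Submodule F V) (hW : finrank F W = 2)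
    (hnd : ∀ w ∈ W, (∀ w' ∈ W, polar Q w' w = 0) → w = 0) {w0 : V} (hw0 : w0 ∈ W) (hQ0 : Q w0 ≠ 0) :
    ∃ b ∈ W, Q b = -Q w0 := by
  classical
  have hfd : Module.Finite F V := Module.Finite.of_finite
  have h00 : w0 ≠ 0 := by
    rintro rfl
    exact hQ0 (QuadraticMap.map_zero Q)
  by_contra hcon
  push Not at hcon
  have hval : ∀ w ∈ W, Q w = 0 ∨ Q w = Q w0 := by
    intro w hw
    have h1 := hcon w hw
    rcases tri hF (Q w0) with h | h | h
    · exact absurd h hQ0
    · rcases tri hF (Q w) with h' | h' | h'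
      · exact Or.inl h'
      · exact Or.inr (h'.trans h.symm)
      · exact absurd (h'.trans (by rw [h])) h1
    · rcases tri hF (Q w) with h' | h' | h'
      · exact Or.inl h'
      · exact absurd (h'.trans (by rw [h, neg_neg])) h1
      · exact Or.inr (h'.trans h.symm)
  have hsum : ∀ w : V, Q (w0 + w) + Q (w0 - w) = 2 * Q w0 + 2 * Q w := by
    intro w
    have h1 : w0 - w = w0 + (-1 : F) • w := by rw [neg_one_smul]; abel
    rw [h1, Q_add, Q_add, QuadraticMap.map_smul, polar_smul_right]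
    simp only [smul_eq_mul]
    ring
  have hc2 : (2 : F) * Q w0 ≠ 0 := mul_ne_zero (two_ne_three hF) hQ0
  have case0 : ∀ s ∈ W, s ∉ Submodule.span F {w0} → Q s = 0 → False := by
    intro s hs hsn hQs
    have hli : LinearIndependent F ![w0, s] := by
      rw [LinearIndependent.pair_iff' h00]
      intro a ha
      exact hsn (ha ▸ Submodule.smul_mem _ a (Submodule.mem_span_singleton_self w0))
    have hspan : W = Submodule.span F {w0, s} := by
      symm
      apply Submodule.eq_of_le_of_finrank_eq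
      · rw [Submodule.span_le]
        rintro v (rfl | rfl)
        · exact hw0
        · exact hs
      · have h1 := finrank_span_eq_card hli
        rw [Matrix.range_cons_cons_empty, Fintype.card_fin] at h1
        rw [h1, hW]
    have h1 := hsum s
    rw [hQs, mul_zero, add_zero] at h1
    have h2 : Q (w0 + s) = Q w0 := by
      rcases hval _ (W.add_mem hw0 hs) with h3 | h3
      · exfalso
        rw [h3, zero_add] at h1
        rcases hval _ (W.sub_mem hw0 hs) with h4 | h4
        · rw [h4] at h1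
          exact hc2 h1.symm
        · rw [h4] at h1
          exact hQ0 (by linear_combination -h1)
      · exact h3
    have h3 : polar Q w0 s = 0 := by
      rw [polar, h2, hQs]; ring
    have h4 : s = 0 := by
      apply hnd s hs
      intro w' hw'
      rw [hspan, Submodule.mem_span_pair] at hw'
      obtain ⟨a, b, rfl⟩ := hw'
      rw [polar_add_left, polar_smul_left, polar_smul_left, h3, polar_self', hQs]
      simp
    exact hsn (h4 ▸ Submodule.zero_mem _)
  obtain ⟨w1, hw1, hn⟩ : ∃ w1 ∈ W, w1 ∉ Submodule.span F {w0} := by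
    by_contra hcon
    push Not at hcon
    have h1 : W ≤ Submodule.span F {w0} := hcon
    have h2 := Submodule.finrank_mono h1
    rw [hW, finrank_span_singleton h00] at h2
    omega
  have hspan0 := Submodule.mem_span_singleton_self (R := F) w0
  rcases hval w1 hw1 with h | h
  · exact case0 w1 hw1 hn h
  · have h1 := hsum w1
    rw [h] at h1
    rcases hval _ (W.add_mem hw0 hw1) with h3 | h3
    · refine case0 _ (W.add_mem hw0 hw1) (fun h4 => hn ?_) h3
      have := Submodule.sub_mem _ h4 hspan0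
      rwa [add_sub_cancel_left] at this
    · rcases hval _ (W.sub_mem hw0 hw1) with h5 | h5
      · refine case0 _ (W.sub_mem hw0 hw1) (fun h4 => hn ?_) h5
        have := Submodule.sub_mem _ hspan0 h4
        rwa [sub_sub_cancel] at this
      · rw [h3, h5] at h1
        apply hc2
        linear_combination -h1

end three

section cent

variable {F V : Type*} [Field F] [Fintype F] [AddCommGroup V] [Module F V] [Finite V] {Q : QuadraticForm F V}
variable {p e : ℕ} {x : E Q}

/-- two-dimensional fixed space over `F_3` -/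
theorem E_cent_two_three (hF : Fintype.card F = 3) (hG : Good Q) (h : Sit (rhoE Q) p e x)
    (hd : finrank F V = e + 2) {s : ℕ} (hs : s ^ 2 = Fintype.card F ^ e) :
    Nat.card (centralizer ({x} : Set (E Q))) ≤ (s + 1) * 2 := by
  classical
  have hfd : Module.Finite F V := Module.Finite.of_finite
  have : Finite (E Q) := Finite.of_injective (fun g : E Q => ((g : V ≃ₗ[F] V) : V → V)) (by
    intro a b hab
    exact Subtype.ext (DFunLike.coe_injective hab))
  refine h.card_centralizer_le (isForm_E hG.nondeg) formE_inv hs ?_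
  let W : Submodule F V := LinearMap.ker (rhoE Q x - 1)
  have hW : finrank F W = 2 := by
    have h1 := LinearMap.finrank_range_add_finrank_ker (rhoE Q x - 1)
    have h2 := h.finrank_UU
    have h3 : finrank F (LinearMap.range (rhoE Q x - 1)) = e := h2
    have h4 : finrank F W = finrank F (LinearMap.ker (rhoE Q x - 1)) := rfl
    omega
  have hnd : ∀ w ∈ W, (∀ w' ∈ W, polar Q w' w = 0) → w = 0 := by
    intro w hw hw'
    apply hG.nondeg
    intro y
    have hy : y ∈ UU (rhoE Q) x ⊔ LinearMap.ker (rhoE Q x - 1) := by rw [sup_ker h]; trivial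
    obtain ⟨u, hu, z, hz, rfl⟩ := Submodule.mem_sup.1 hy
    rw [polar_comm, polar_add_left, perp_UU (mem_kerE.1 hw) hu, hw' z hz, add_zero]
  obtain ⟨w0, hw0, hQ0⟩ : ∃ w0 ∈ W, Q w0 ≠ 0 := by
    by_contra hcon
    push Not at hcon
    have h1 : W = ⊥ := by
      rw [eq_bot_iff]
      intro w hw
      rw [Submodule.mem_bot]
      apply hnd w hw
      intro w' hw'
      rw [polar, hcon _ (W.add_mem hw' hw), hcon _ hw', hcon _ hw]
      simp
    rw [h1, finrank_bot] at hW
    omega
  have h2ne := two_ne_three hF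
  -- vectors of norm `1` and `-1`
  obtain ⟨w1, hw1, hQ1⟩ := exists_norm hF Q W hW hnd hw0 hQ0
  obtain ⟨a, haW, b, hbW, ha, hb⟩ : ∃ a ∈ W, ∃ b ∈ W, Q a = 1 ∧ Q b = -1 := by
    rcases tri hF (Q w0) with h' | h' | h'
    · exact absurd h' hQ0
    · exact ⟨w0, hw0, w1, hw1, h', by rw [hQ1, h']⟩
    · exact ⟨w1, hw1, w0, hw0, by rw [hQ1, h', neg_neg], h'⟩
  have ha0 : Q a ≠ 0 := by rw [ha]; exact one_ne_zero
  have hb0 : Q b ≠ 0 := by rw [hb]; exact neg_ne_zero.2 one_ne_zero
  let ρ : O Q := ⟨refl Q a ha0, refl_mem_O ha0⟩ * ⟨refl Q b hb0, refl_mem_O hb0⟩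
  have hρdet : LinearEquiv.det (ρ : V ≃ₗ[F] V) = 1 := by
    change LinearEquiv.det (refl Q a ha0 * refl Q b hb0) = 1
    rw [map_mul, det_refl, det_refl]
    simp
  have hρspin : spin Q ρ = -1 := by
    have h1 : spin Q ρ = spin Q ⟨refl Q a ha0, refl_mem_O ha0⟩ * spin Q ⟨refl Q b hb0, refl_mem_O hb0⟩ :=
      map_mul _ _ _
    rw [h1, spin_refl h2ne ha0, spin_refl h2ne hb0, if_pos (by rw [ha]; exact IsSquare.one), if_neg, mul_one]
    rw [hb]
    rintro ⟨y, hy⟩
    rcases tri hF y with h' | h' | h'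
    · rw [h', mul_zero] at hy
      exact one_ne_zero (neg_eq_zero.1 hy)
    · rw [h', mul_one] at hy
      exact h2ne (by linear_combination -hy)
    · rw [h'] at hy
      exact h2ne (by linear_combination -hy)
  have hreflU : ∀ (c : V) (hc : Q c ≠ 0), c ∈ W → ∀ u ∈ UU (rhoE Q) x, refl Q c hc u = u := by
    intro c hc hcW u hu
    rw [refl_apply, polar_comm, perp_UU (mem_kerE.1 hcW) hu]
    simp
  have hreflW : ∀ (c : V) (hc : Q c ≠ 0), c ∈ W → ∀ w ∈ W, refl Q c hc w ∈ W := by
    intro c hc hcW w hw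
    rw [refl_apply]
    exact W.sub_mem hw (W.smul_mem _ hcW)
  have hρU : ∀ u ∈ UU (rhoE Q) x, (ρ : V ≃ₗ[F] V) u = u := by
    intro u hu
    change refl Q a ha0 (refl Q b hb0 u) = u
    rw [hreflU b hb0 hbW u hu, hreflU a ha0 haW u hu]
  have hρW : ∀ w ∈ W, (ρ : V ≃ₗ[F] V) w ∈ W := by
    intro w hw
    exact hreflW a ha0 haW _ (hreflW b hb0 hbW w hw)
  -- elements of `Ω` are in the kernel of `spin` and of `det`
  have hcomm : ∀ c : E Q, spin Q ⟨c, E_le_O c.2⟩ = 1 ∧ LinearEquiv.det (c : V ≃ₗ[F] V) = 1 := by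
    intro c
    have hc : (c : V ≃ₗ[F] V) ∈ ⁅O Q, O Q⁆ := by rw [hG.commutator_eq_E]; exact c.2
    constructor
    · have h1 : ⁅O Q, O Q⁆ = (_root_.commutator (O Q)).map (O Q).subtype := by
        rw [commutator_def, Subgroup.map_commutator, ← MonoidHom.range_eq_map, Subgroup.range_subtype]
      rw [h1] at hc
      obtain ⟨y, hy, hyc⟩ := hc
      have h2 : y = ⟨c, E_le_O c.2⟩ := Subtype.ext hyc
      rw [← h2]
      have h3 : _root_.commutator (O Q) ≤ (spin Q).ker := Abelianization.commutator_subset_ker _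
      exact h3 hy
    · have h1 : ⁅O Q, O Q⁆ ≤ (LinearEquiv.det (R := F) (M := V)).ker := by
        rw [Subgroup.commutator_le]
        intro a _ b _
        rw [MonoidHom.mem_ker, map_commutatorElement, commutatorElement_eq_one_iff_mul_comm, mul_comm]
      exact h1 hc
  set A : Set (E Q) := {c : E Q | c ∈ centralizer ({x} : Set (E Q)) ∧ ∀ u ∈ UU (rhoE Q) x, rhoE Q c u = u} with hA
  set B : Set V := {w : V | w ∈ W ∧ Q w = Q w0} with hB
  have hB4 : B.ncard ≤ 4 := by
    have := plane_card Q W hW hnd hw0 hQ0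
    rw [hF] at this
    exact this
  have hcW : ∀ c ∈ A, (c : V ≃ₗ[F] V) w0 ∈ W := by
    rintro c ⟨hc, -⟩
    have h1 : c * x = x * c := mem_centralizer_singleton_iff.1 hc
    apply mem_kerE.2
    have h2 : rhoE Q (x * c) w0 = rhoE Q (c * x) w0 := by rw [h1]
    rw [rho_mul_apply, rho_mul_apply, mem_kerE.1 hw0] at h2
    exact h2
  have hT : finrank F V ≤ finrank F (UU (rhoE Q) x ⊔ Submodule.span F {w0} : Submodule F V) + 1 := by
    have hlt : UU (rhoE Q) x < UU (rhoE Q) x ⊔ Submodule.span F {w0} := by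
      refine lt_of_le_of_ne le_sup_left ?_
      intro h1
      have h2 : w0 ∈ UU (rhoE Q) x := by
        rw [h1]; exact Submodule.mem_sup_right (Submodule.mem_span_singleton_self w0)
      have h3 := h.disj h2 (mem_kerE.1 hw0)
      apply hQ0
      rw [h3]
      exact QuadraticMap.map_zero Q
    have h4 := Submodule.finrank_lt_finrank_of_lt hlt
    rw [h.finrank_UU] at h4
    omega
  -- an isometry of determinant one fixing the hyperplane
  have hfix : ∀ g : O Q, LinearEquiv.det (g : V ≃ₗ[F] V) = 1 → (∀ u ∈ UU (rhoE Q) x, (g : V ≃ₗ[F] V) u = u) →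
      (g : V ≃ₗ[F] V) w0 = w0 → g = 1 := by
    intro g hg1 hg2 hg3
    apply Subtype.ext
    apply eq_one_of_hyper_det hG.nondeg h2ne g.2 hg1 _ hT
    intro t ht
    obtain ⟨u, hu, z, hz, rfl⟩ := Submodule.mem_sup.1 ht
    obtain ⟨r, rfl⟩ := Submodule.mem_span_singleton.1 hz
    rw [map_add, map_smul, hg2 u hu, hg3]
  let i : E Q →* O Q := Subgroup.inclusion E_le_O
  have hi : ∀ (c : E Q) (v : V), ((i c : O Q) : V ≃ₗ[F] V) v = (c : V ≃ₗ[F] V) v := fun _ _ => rfl
  have hmul : ∀ (g k : O Q) (v : V), ((g * k : O Q) : V ≃ₗ[F] V) v = (g : V ≃ₗ[F] V) ((k : V ≃ₗ[F] V) v) :=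
    fun _ _ _ => rfl
  have hinv : ∀ (g : O Q) (v w : V), (g : V ≃ₗ[F] V) v = w → ((g⁻¹ : O Q) : V ≃ₗ[F] V) w = v := by
    intro g v w hgv
    rw [← hgv]
    exact LinearEquiv.symm_apply_apply _ _
  let f1 : E Q → V := fun c => (c : V ≃ₗ[F] V) w0
  let f2 : E Q → V := fun c => (ρ : V ≃ₗ[F] V) ((c : V ≃ₗ[F] V) w0)
  have hinj1 : Set.InjOn f1 A := by
    rintro c ⟨-, hc⟩ d ⟨-, hd'⟩ hcd
    have hcd' : (c : V ≃ₗ[F] V) w0 = (d : V ≃ₗ[F] V) w0 := hcd
    have h1 : (i d)⁻¹ * i c = 1 := by
      apply hfix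
      · rw [Subgroup.coe_mul, map_mul, Subgroup.coe_inv, map_inv]
        have e1 : LinearEquiv.det ((i d : O Q) : V ≃ₗ[F] V) = 1 := (hcomm d).2
        have e2 : LinearEquiv.det ((i c : O Q) : V ≃ₗ[F] V) = 1 := (hcomm c).2
        rw [e1, e2]; simp
      · intro u hu
        rw [hmul, hi, show (c : V ≃ₗ[F] V) u = u from hc u hu]
        exact hinv _ _ _ (hd' u hu)
      · rw [hmul, hi, hcd']
        exact hinv _ _ _ rfl
    have h2 : i c = i d := (inv_mul_eq_one.1 h1).symm
    exact Subgroup.inclusion_injective E_le_O h2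
  have hinj2 : Set.InjOn f2 A := by
    intro c hc d hd' hcd
    exact hinj1 hc hd' ((ρ : V ≃ₗ[F] V).injective hcd)
  have hdisj : Disjoint (f1 '' A) (f2 '' A) := by
    rw [Set.disjoint_left]
    rintro _ ⟨c, ⟨hc1, hc⟩, rfl⟩ ⟨d, ⟨hd1, hd'⟩, hcd⟩
    have hcd' : (ρ : V ≃ₗ[F] V) ((d : V ≃ₗ[F] V) w0) = (c : V ≃ₗ[F] V) w0 := hcd
    have h1 : (i c)⁻¹ * (ρ * i d) = 1 := by
      apply hfix
      · rw [Subgroup.coe_mul, map_mul, Subgroup.coe_inv, map_inv, Subgroup.coe_mul, map_mul, hρdet]
        have e1 : LinearEquiv.det ((i d : O Q) : V ≃ₗ[F] V) = 1 := (hcomm d).2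
        have e2 : LinearEquiv.det ((i c : O Q) : V ≃ₗ[F] V) = 1 := (hcomm c).2
        rw [e1, e2]; simp
      · intro u hu
        rw [hmul, hmul, hi, show (d : V ≃ₗ[F] V) u = u from hd' u hu, hρU u hu]
        exact hinv _ _ _ (hc u hu)
      · rw [hmul, hmul, hi, hcd']
        exact hinv _ _ _ rfl
    have h2 : spin Q ((i c)⁻¹ * (ρ * i d)) = 1 := by rw [h1, map_one]
    rw [map_mul, map_mul, map_inv] at h2
    have e1 : spin Q (i d) = 1 := (hcomm d).1
    have e2 : spin Q (i c) = 1 := (hcomm c).1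
    rw [e1, e2, hρspin] at h2
    exact absurd h2 (by decide)
  have hsub : f1 '' A ∪ f2 '' A ⊆ B := by
    rintro _ (⟨c, hc, rfl⟩ | ⟨c, hc, rfl⟩)
    · exact ⟨hcW c hc, E_le_O c.2 w0⟩
    · refine ⟨hρW _ (hcW c hc), ?_⟩
      change Q ((ρ : V ≃ₗ[F] V) ((c : V ≃ₗ[F] V) w0)) = Q w0
      rw [ρ.2, E_le_O c.2 w0]
  have h1 := Set.ncard_le_ncard hsub (Set.toFinite _)
  rw [Set.ncard_union_eq hdisj (Set.toFinite _) (Set.toFinite _), hinj1.ncard_image, hinj2.ncard_image] at h1
  omega

end cent

end Cfsg.Agent.H409.Cyc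
end

-- part: H409/FprCycChk
section
/-!
# Cyclic Sylow subgroups: small cases, by arithmetic
-/

set_option autoImplicit false
set_option linter.unusedSectionVars false

namespace Cfsg.Agent.H409.Cyc

open Module Subgroup

section chk

variable {G : Type*} [Group G] [Finite G] {F V : Type*} [Field F] [Fintype F] [AddCommGroup V] [Module F V]
  [Finite V] {ρ : G →* Module.End F V} {p e : ℕ}

/-- **Arithmetic check.** -/
theorem row_of_chk {S : Type*} [Group S] [Finite S] [hp : Fact p.Prime] (hodd : p ≠ 2)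
    (hinj : Function.Injective ρ) (hch : (p : F) ≠ 0) (he : ∀ k, p ∣ Fintype.card F ^ k - 1 → e ∣ k)
    (hdim : finrank F V < 2 * e) (hpG : p ∣ Nat.card G) (f : G →* S) (hf : Function.Surjective f)
    (hker : f.ker ≤ center G) (hkp : ¬ p ∣ Nat.card f.ker) {c : ℕ}
    (hC : ∀ x : G, orderOf x = p → Nat.card (centralizer ({x} : Set G)) ≤ c)
    {L N M : ℕ} (hL : ∀ H : Subgroup S, H ≠ ⊤ → L ≤ H.index) (hN : Nat.card S ∣ N)
    (hM : e * c < Nat.card f.ker * (p * (M + 1))) (hML : M ≤ L)
    (hchk : ∀ g ≤ M, ∀ j < g, L ≤ g + p * j → ¬ (g + p * j ∣ N)) : FprRow (p + 1) 1 p S := by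
  obtain ⟨P, y, hy, hNP⟩ := exists_sylow hodd hinj hch he hdim hpG f hf hker hkp hC
  have hk0 : 0 < Nat.card f.ker := Nat.card_pos
  have hpS : p ∣ Nat.card S := by
    have h3 := (f.ker).card_mul_index
    rw [index_ker, MonoidHom.range_eq_top.2 hf, card_top] at h3
    rw [← h3] at hpG
    exact (hp.out.dvd_mul.1 hpG).resolve_left hkp
  have hPp : p ≤ Nat.card P := Nat.le_of_dvd Nat.card_pos (P.dvd_card_of_dvd_card hpS)
  refine FprRow.of_cyc P hy ?_
  intro H hH g hg hdvd hmod
  have hgM : g ≤ M := by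
    by_contra hcon
    push Not at hcon
    have h1 := Nat.le_of_dvd Nat.card_pos hdvd
    have h2 : Nat.card f.ker * (p * (M + 1)) ≤ e * c := by
      calc Nat.card f.ker * (p * (M + 1)) ≤ Nat.card f.ker * (Nat.card P * g) :=
            Nat.mul_le_mul_left _ (Nat.mul_le_mul hPp hcon)
        _ ≤ Nat.card f.ker * Nat.card (normalizer (P : Set S)) := Nat.mul_le_mul_left _ h1
        _ ≤ e * c := hNP
    omega
  have hLH := hL H hH
  have hgH : g ≤ H.index := by omega
  obtain ⟨j, hj⟩ : ∃ j, H.index = g + p * j := by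
    have h1 : p ∣ H.index - g := (Nat.modEq_iff_dvd' hgH).1 hmod.symm
    obtain ⟨j, hj⟩ := h1
    exact ⟨j, by omega⟩
  rcases Nat.lt_or_ge j g with h | h
  · exfalso
    apply hchk g hgM j h (by rw [← hj]; exact hLH)
    rw [← hj]
    exact H.index_dvd_card.trans hN
  · rw [hj]
    have : p * g ≤ p * j := Nat.mul_le_mul_left _ h
    have h2 : (p + 1) * g = g + p * g := by ring
    omega

/-- the order of `q` modulo `p` -/
theorem Sit.p_dvd {x : G} (h : Sit ρ p e x) : p ∣ Fintype.card F ^ e - 1 := by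
  classical
  have hp : Fact p.Prime := ⟨h.pr⟩
  let N := UU ρ x
  have : Fintype N := Fintype.ofFinite N
  have h0 : ∀ u ∈ N, ρ x u ∈ N := fun u hu => norm_UU x_mem hu
  let f : Function.End N := fun u => ⟨ρ x u, h0 u u.2⟩
  have hf : ∀ (k : ℕ) (u : N), (((f ^ k) u : N) : V) = (ρ x ^ k) u := by
    intro k
    induction k with
    | zero => intro u; rfl
    | succ k ih =>
      intro u
      rw [pow_succ', pow_succ']
      change ρ x (((f ^ k) u : N) : V) = _
      rw [ih]; rfl
  have hfp : f ^ p ^ 1 = 1 := by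
    rw [pow_one]
    funext u
    apply Subtype.ext
    rw [hf, h.pow_p]; rfl
  have h1 := Equiv.Perm.card_fixedPoints_modEq (f := f) (p := p) (n := 1) hfp
  have h2 : Fintype.card f.fixedPoints = 1 := by
    rw [Fintype.card_eq_one_iff]
    refine ⟨⟨0, ?_⟩, ?_⟩
    · apply Subtype.ext
      exact map_zero _
    · rintro ⟨u, hu⟩
      apply Subtype.ext
      apply Subtype.ext
      have h3 : ρ x (u : V) = u := congrArg Subtype.val hu
      exact h.disj u.2 h3
  rw [h2, Module.card_eq_pow_finrank (K := F), h.finrank_UU] at h1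
  have h3 : 1 ≤ Fintype.card F ^ e := Nat.one_le_pow _ _ Fintype.card_pos
  exact (Nat.modEq_iff_dvd' h3).1 h1.symm

end chk

end Cfsg.Agent.H409.Cyc
end

private theorem dce_a85dd65bfd19 : _root_.True := by
  try have : _root_.True := by simp only [_root_.Cfsg.Agent.H409.Cyc.formSp.eq_1]
  exact _root_.True.intro
end

-- part: H409/FprCycSm
section
set_option linter.all false
open scoped Cfsg.Agent.FastGrp

/-!
# Cyclic Sylow subgroups: the small classical groups
-/

set_option autoImplicit false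
set_option linter.unusedSectionVars false

namespace Cfsg.Agent.H409.Cyc

open Module Subgroup QuadraticMap
open Cfsg.Agent.LieClassical.OrthCore Cfsg.Agent.LieClassical.OrthTrans Cfsg.Agent.LieClassical.OrthForms

section om

variable {F : Type*} [Field F] [Fintype F] {ι : Type} [Fintype ι] [DecidableEq ι] {Q : QuadraticForm F (ι → F)}

theorem row_om_chk {p e : ℕ} [hp : Fact p.Prime] (hodd : p ≠ 2) (hG : Good Q) (hch : (p : F) ≠ 0)
    (he : ∀ k, p ∣ Fintype.card F ^ k - 1 → e ∣ k) (hdim : finrank F (ι → F) < 2 * e)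
    (hpS : p ∣ Nat.card (Cfsg.POmega F ⇑Q)) {c : ℕ}
    (hC : ∀ x : E Q, Sit (rhoE Q) p e x → Nat.card (centralizer ({x} : Set (E Q))) ≤ c) {L N M : ℕ}
    (hL : ∀ H : Subgroup (Cfsg.POmega F ⇑Q), H ≠ ⊤ → L ≤ H.index) (hN : Nat.card (Cfsg.POmega F ⇑Q) ∣ N)
    (hM : e * c < p * (M + 1)) (hML : M ≤ L)
    (hchk : ∀ g ≤ M, ∀ j < g, L ≤ g + p * j → ¬ (g + p * j ∣ N)) :
    FprRow (p + 1) 1 p (Cfsg.POmega F ⇑Q) := by
  classical
  have : Finite (E Q) := Finite.of_injective (fun g : E Q => ((g : (ι → F) ≃ₗ[F] (ι → F)) : (ι → F) → (ι → F))) (by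
    intro a b hab
    exact Subtype.ext (DFunLike.coe_injective hab))
  have hsurj := Cfsg.Agent.H75.OrthIdx.omHom_surjective hG
  have hker := Cfsg.Agent.H75.OrthIdx.omHom_ker hG
  have : Finite (Cfsg.POmega F ⇑Q) := Finite.of_surjective _ hsurj
  have hpG : p ∣ Nat.card (E Q) := hpS.trans (Subgroup.card_dvd_of_surjective _ hsurj)
  refine row_of_chk (S := Cfsg.POmega F ⇑Q) (F := F) (ρ := rhoE Q) (p := p) (e := e) hodd rhoE_inj hch he hdim hpG
    (Cfsg.Agent.H75.OrthIdx.omHom hG) hsurj (by rw [hker]) (by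
      rw [hker]
      exact not_dvd_of_sq hodd _ (fun z hz => center_sq_E hG hz)) (c := c)
    (fun x hx => hC x ⟨rhoE_inj, hx, hp.out, hodd, hch, he, hdim⟩) (L := L) (M := M) hL hN ?_ hML hchk
  have h1 : 1 ≤ Nat.card (Cfsg.Agent.H75.OrthIdx.omHom hG).ker := Nat.card_pos
  calc e * c < 1 * (p * (M + 1)) := by rw [one_mul]; exact hM
    _ ≤ _ := Nat.mul_le_mul_right _ h1

/-- a `Sit` exists -/
theorem om_p_dvd {p e : ℕ} [hp : Fact p.Prime] (hodd : p ≠ 2) (hG : Good Q) (hch : (p : F) ≠ 0)
    (he : ∀ k, p ∣ Fintype.card F ^ k - 1 → e ∣ k) (hdim : finrank F (ι → F) < 2 * e)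
    (hpS : p ∣ Nat.card (Cfsg.POmega F ⇑Q)) : p ∣ Fintype.card F ^ e - 1 := by
  have : Finite (E Q) := Finite.of_injective (fun g : E Q => ((g : (ι → F) ≃ₗ[F] (ι → F)) : (ι → F) → (ι → F))) (by
    intro a b hab
    exact Subtype.ext (DFunLike.coe_injective hab))
  have hpG : p ∣ Nat.card (E Q) := hpS.trans
    (Subgroup.card_dvd_of_surjective _ (Cfsg.Agent.H75.OrthIdx.omHom_surjective hG))
  obtain ⟨x, hx⟩ := exists_prime_orderOf_dvd_card' p hpG
  have h : Sit (rhoE Q) p e x := ⟨rhoE_inj, hx, hp.out, hodd, hch, he, hdim⟩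
  exact h.p_dvd

end om

section special

variable {F : Type*} [Field F] [Fintype F]

/-- `Ω₈⁻(2)`. -/
theorem row_minus_small {p : ℕ} [hp : Fact p.Prime] (hodd : p ≠ 2) (hF : Fintype.card F = 2) {a b : F}
    (hab : ∀ z₁ z₂ : F, z₁ ^ 2 + a * z₁ * z₂ + b * z₂ ^ 2 = 0 → z₁ = 0 ∧ z₂ = 0)
    (hch : (p : F) ≠ 0) (he : ∀ k, p ∣ Fintype.card F ^ k - 1 → 2 * 4 ∣ k)
    (hpS : p ∣ Nat.card (Cfsg.POmega F (Cfsg.quadFormMinus (4 - 1) F a b))) :
    FprRow (p + 1) 1 p (Cfsg.POmega F (Cfsg.quadFormMinus (4 - 1) F a b)) := by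
  have hC := Cfsg.Agent.H76.Num.minusCount hab 3 (by omega)
  have hG := Cfsg.Agent.H76.Num.good_minusForm hab 3 (by omega)
  have hcent : ∀ x : E (minusForm 3 F a b), Sit (rhoE (minusForm 3 F a b)) p (2 * 4) x →
      Nat.card (centralizer ({x} : Set (E (minusForm 3 F a b)))) ≤ (2 ^ 4 + 1) * 1 := fun x hx =>
    E_cent_one hG hx (by rw [hC.finrank]; omega) (by rw [hF]; norm_num)
  have hL := (Cfsg.Agent.S2147.result hF 4 (by norm_num) a b hab).1
  have hN := Cfsg.Agent.S0294.result hF 4 (by norm_num) a b hab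
  rw [show (4 - 1 : ℕ) = 3 by norm_num] at hL hN hpS ⊢
  rw [← coe_minusForm] at hL hN hpS ⊢
  have hpd := om_p_dvd hodd hG hch he (by rw [hC.finrank]; norm_num) hpS
  have hp17 : p = 17 := by
    rw [hF] at hpd he
    have h1 : p ∣ 3 * 5 * 17 := by norm_num at hpd ⊢; exact hpd
    rcases (hp.out.dvd_mul.1 h1) with h2 | h2
    · exfalso
      rcases (hp.out.dvd_mul.1 h2) with h3 | h3
      · have := he 2 (by norm_num; exact h3)
        omega
      · have := he 4 (by norm_num; exact h3.trans (by norm_num))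
        omega
    · exact (Nat.prime_dvd_prime_iff_eq hp.out (by norm_num)).1 h2
  subst hp17
  have hN' : Nat.card (Cfsg.POmega F ⇑(minusForm 3 F a b)) = 197406720 := by
    norm_num only [Finset.prod_range_succ, _root_.one_mul] at hN
    omega
  norm_num only [_root_.ne_eq] at hL
  exact row_om_chk (p := 17) (L := 119) (N := 197406720) (M := 8) hodd hG hch he
    (by rw [hC.finrank]; norm_num) hpS hcent hL (by rw [hN']) (by norm_num) (by norm_num) (by decide +kernel)

/-- `Sp₈(2)`. -/
theorem row_sp_small {p : ℕ} [hp : Fact p.Prime] (hodd : p ≠ 2) (hF : Fintype.card F = 2)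
    (hch : (p : F) ≠ 0) (he : ∀ k, p ∣ Fintype.card F ^ k - 1 → 2 * 4 ∣ k)
    (hpS : p ∣ Nat.card (PSp 4 F)) : FprRow (p + 1) 1 p (PSp 4 F) := by
  have hker : (QuotientGroup.mk' (center (Matrix.symplecticGroup (Fin 4) F))).ker =
      center (Matrix.symplecticGroup (Fin 4) F) := QuotientGroup.ker_mk' _
  have hfr : finrank F (Fin 4 ⊕ Fin 4 → F) = 8 := by
    rw [Module.finrank_fintype_fun_eq_card, Fintype.card_sum, Fintype.card_fin]
  have hpG : p ∣ Nat.card (Matrix.symplecticGroup (Fin 4) F) := hpS.trans (Subgroup.card_quotient_dvd_card _)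
  have hpd : p ∣ Fintype.card F ^ 8 - 1 := by
    obtain ⟨x, hx⟩ := exists_prime_orderOf_dvd_card' p hpG
    have h : Sit (rhoSp 4 F) p (2 * 4) x := ⟨rhoSp_inj, hx, hp.out, hodd, hch, he, by rw [hfr]; norm_num⟩
    exact h.p_dvd
  have hp17 : p = 17 := by
    rw [hF] at hpd he
    have h1 : p ∣ 3 * 5 * 17 := by norm_num at hpd ⊢; exact hpd
    rcases (hp.out.dvd_mul.1 h1) with h2 | h2
    · exfalso
      rcases (hp.out.dvd_mul.1 h2) with h3 | h3
      · have := he 2 (by norm_num; exact h3)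
        omega
      · have := he 4 (by norm_num; exact h3.trans (by norm_num))
        omega
    · exact (Nat.prime_dvd_prime_iff_eq hp.out (by norm_num)).1 h2
  subst hp17
  have hL := (Cfsg.Agent.S2142.result hF 4 (by norm_num)).1
  norm_num only [_root_.ne_eq] at hL
  have hN := Cfsg.Agent.S0245.result hF 4
  norm_num only [Finset.prod_range_succ] at hN
  refine row_of_chk (S := PSp 4 F) (F := F) (ρ := rhoSp 4 F) (p := 17) (e := 2 * 4) (c := 17) (L := 120)
    (N := 47377612800) (M := 8) hodd rhoSp_inj hch he (by rw [hfr]; norm_num) hpG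
    (QuotientGroup.mk' (center (Matrix.symplecticGroup (Fin 4) F))) (QuotientGroup.mk'_surjective _)
    (by rw [hker]) (by
      rw [hker]
      exact not_dvd_of_sq hodd _ (fun z hz => Cfsg.Agent.H973.ZPSp.center_sq hz)) (fun x hx => ?_) hL ?_ ?_
    (by norm_num) (by decide +kernel)
  · have := sp_cent hodd hch he (by norm_num) x hx
    rw [hF] at this
    norm_num only [] at this
    exact this
  · rw [← hN]; exact Subgroup.card_quotient_dvd_card _
  · have h1 : 1 ≤ Nat.card (QuotientGroup.mk' (center (Matrix.symplecticGroup (Fin 4) F))).ker := Nat.card_pos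
    omega

/-- `PSp₄(3)`. -/
theorem row_psp_small {p : ℕ} [hp : Fact p.Prime] (hodd : p ≠ 2) (hF : Fintype.card F = 3)
    (hch : (p : F) ≠ 0) (he : ∀ k, p ∣ Fintype.card F ^ k - 1 → 2 * 2 ∣ k)
    (hpS : p ∣ Nat.card (PSp 2 F)) : FprRow (p + 1) 1 p (PSp 2 F) := by
  have hker : (QuotientGroup.mk' (center (Matrix.symplecticGroup (Fin 2) F))).ker =
      center (Matrix.symplecticGroup (Fin 2) F) := QuotientGroup.ker_mk' _
  have hfr : finrank F (Fin 2 ⊕ Fin 2 → F) = 4 := by
    rw [Module.finrank_fintype_fun_eq_card, Fintype.card_sum, Fintype.card_fin]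
  have hpG : p ∣ Nat.card (Matrix.symplecticGroup (Fin 2) F) := hpS.trans (Subgroup.card_quotient_dvd_card _)
  have hpd : p ∣ Fintype.card F ^ 4 - 1 := by
    obtain ⟨x, hx⟩ := exists_prime_orderOf_dvd_card' p hpG
    have h : Sit (rhoSp 2 F) p (2 * 2) x := ⟨rhoSp_inj, hx, hp.out, hodd, hch, he, by rw [hfr]; norm_num⟩
    exact h.p_dvd
  have hp5 : p = 5 := by
    rw [hF] at hpd
    have h1 : p ∣ 2 ^ 4 * 5 := by norm_num at hpd ⊢; exact hpd
    rcases (hp.out.dvd_mul.1 h1) with h2 | h2
    · exact absurd ((Nat.prime_dvd_prime_iff_eq hp.out Nat.prime_two).1 (hp.out.dvd_of_dvd_pow h2)) hodd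
    · exact (Nat.prime_dvd_prime_iff_eq hp.out (by norm_num)).1 h2
  subst hp5
  have hL : ∀ H : Subgroup (PSp 2 F), H ≠ ⊤ → 27 ≤ H.index := by
    intro H hH
    let K := GaloisField 2 2
    have : Finite K := Nat.finite_of_card_ne_zero (by rw [GaloisField.card 2 2 (by norm_num)]; norm_num)
    let _ : Fintype K := Fintype.ofFinite K
    have hK : Fintype.card K = 4 := by
      rw [← Nat.card_eq_fintype_card, GaloisField.card 2 2 (by norm_num)]; norm_num
    obtain ⟨φ⟩ := Cfsg.Agent.S0822.result (F := K) (K := F) hK hF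
    have h1 := (Cfsg.Agent.S2150.result (F := K) 2 (by rw [hK]; norm_num) (by norm_num)).1
      (H.comap (φ : PSU 4 K 2 →* PSp 2 F)) (by
        intro h2
        apply hH
        rw [eq_top_iff]
        intro y _
        obtain ⟨z, rfl⟩ := φ.surjective y
        have : z ∈ H.comap (φ : PSU 4 K 2 →* PSp 2 F) := by rw [h2]; trivial
        exact this)
    rw [Subgroup.index_comap_of_surjective _ φ.surjective] at h1
    norm_num at h1
    exact h1
  have hN := Cfsg.Agent.S0245.result hF 2
  norm_num only [Finset.prod_range_succ] at hN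
  have hZ := Cfsg.Agent.S0246.result hF 2 (by norm_num)
  refine row_of_chk (S := PSp 2 F) (F := F) (ρ := rhoSp 2 F) (p := 5) (e := 2 * 2) (c := 10) (L := 27)
    (N := 51840) (M := 4) hodd rhoSp_inj hch he (by rw [hfr]; norm_num) hpG
    (QuotientGroup.mk' (center (Matrix.symplecticGroup (Fin 2) F))) (QuotientGroup.mk'_surjective _)
    (by rw [hker]) (by
      rw [hker]
      exact not_dvd_of_sq hodd _ (fun z hz => Cfsg.Agent.H973.ZPSp.center_sq hz)) (fun x hx => ?_) hL ?_ ?_
    (by norm_num) (by decide +kernel)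
  · have := sp_cent hodd hch he (by norm_num) x hx
    rw [hF] at this
    norm_num only [] at this
    exact this
  · rw [← hN]; exact Subgroup.card_quotient_dvd_card _
  · rw [hker, hZ]; norm_num

/-- the center of `SU` has no `p`-torsion -/
theorem su_ker {n q p e : ℕ} [hp : Fact p.Prime] (hF : Fintype.card F = q ^ 2)
    (he : ∀ k, p ∣ Fintype.card F ^ k - 1 → e ∣ k) (h2 : 2 ≤ e) (hn3 : 3 ≤ n) :
    ¬ p ∣ Nat.card (QuotientGroup.mk' (center (SU n F q))).ker := by
  have hker : (QuotientGroup.mk' (center (SU n F q))).ker = center (SU n F q) := QuotientGroup.ker_mk' _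
  have hnt : Nontrivial (Fin n → F) := by
    have : Nonempty (Fin n) := ⟨⟨0, by omega⟩⟩
    infer_instance
  rw [hker]
  apply not_dvd_of_scalar he h2 rhoSU_inj
  intro z hz
  obtain ⟨c, hcn, hcq, hzc⟩ := (LieClassical.SUBasic.mem_center_SU_iff hF hn3 z).1 hz
  refine ⟨c, ?_⟩
  apply LinearMap.ext
  intro v
  rw [rhoSU_apply, hzc, LieClassical.SUBasic.coe_suScalar]
  simp

/-- `PSU₅(2)`. -/
theorem row_su_small {p : ℕ} [hp : Fact p.Prime] (hodd : p ≠ 2) (hF : Fintype.card F = 2 ^ 2)
    (hch : (p : F) ≠ 0) (he : ∀ k, p ∣ Fintype.card F ^ k - 1 → 5 ∣ k)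
    (hpS : p ∣ Nat.card (PSU 5 F 2)) : FprRow (p + 1) 1 p (PSU 5 F 2) := by
  classical
  have hfin : Finite (SU 5 F 2) := inferInstance
  have hker : (QuotientGroup.mk' (center (SU 5 F 2))).ker = center (SU 5 F 2) := QuotientGroup.ker_mk' _
  have hfr : finrank F (Fin 5 → F) = 5 := Module.finrank_fin_fun F
  have hpG : p ∣ Nat.card (SU 5 F 2) := hpS.trans (Subgroup.card_quotient_dvd_card _)
  have hpd : p ∣ Fintype.card F ^ 5 - 1 := by
    obtain ⟨x, hx⟩ := exists_prime_orderOf_dvd_card' p hpG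
    have h : Sit (rhoSU 5 F 2) p 5 x := ⟨rhoSU_inj, hx, hp.out, hodd, hch, he, by rw [hfr]; norm_num⟩
    exact h.p_dvd
  have hN := Cfsg.Agent.S0280.result hF 5 (by norm_num)
  have hN' : Nat.card (PSU 5 F 2) = 13685760 := by
    rw [Finset.prod_range_succ, Finset.prod_range_succ, Finset.prod_range_succ, Finset.prod_range_succ,
      Finset.prod_range_succ, Finset.prod_range_zero, if_pos (by decide : Even 0), if_neg (by decide : ¬ Even 1),
      if_pos (by decide : Even 2), if_neg (by decide : ¬ Even 3), if_pos (by decide : Even 4)] at hN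
    obtain ⟨C, hC⟩ : ∃ C, Nat.card (PSU 5 F 2) = C := ⟨_, rfl⟩
    rw [hC] at hN ⊢
    norm_num at hN
    omega
  have hp11 : p = 11 := by
    rw [hF] at hpd he
    have h1 : p ∣ 3 * 11 * 31 := by norm_num at hpd ⊢; exact hpd
    rcases (hp.out.dvd_mul.1 h1) with h2 | h2
    · rcases (hp.out.dvd_mul.1 h2) with h3 | h3
      · exfalso
        have := he 1 (by norm_num; exact h3)
        omega
      · exact (Nat.prime_dvd_prime_iff_eq hp.out (by norm_num)).1 h3
    · exfalso
      have h3 := (Nat.prime_dvd_prime_iff_eq hp.out (by norm_num)).1 h2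
      rw [hN', h3] at hpS
      exact absurd hpS (by decide)
  subst hp11
  have hL := (Cfsg.Agent.S2151.result 2 hF (by norm_num) 5 (by norm_num) (by decide)).1
  norm_num only [_root_.ne_eq] at hL
  refine row_of_chk (S := PSU 5 F 2) (F := F) (ρ := rhoSU 5 F 2) (p := 11) (e := 5) (c := 2 ^ 5 + 1) (L := 165)
    (N := 13685760) (M := 15) hodd rhoSU_inj hch he (by rw [hfr]; norm_num) hpG
    (QuotientGroup.mk' (center (SU 5 F 2))) (QuotientGroup.mk'_surjective _)
    (by rw [hker]) (su_ker hF he (by norm_num) (by norm_num))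
    (fun x hx => su_cent hodd hF hch he (by norm_num) (Or.inl rfl) x hx) hL (by rw [hN']) ?_
    (by norm_num) (by decide +kernel)
  have h1 : 1 ≤ Nat.card (QuotientGroup.mk' (center (SU 5 F 2))).ker := Nat.card_pos
  omega

/-- `PSU₄(2)`: there is no such prime. -/
theorem no_su_four {p : ℕ} [hp : Fact p.Prime] (hodd : p ≠ 2) (hF : Fintype.card F = 2 ^ 2)
    (hch : (p : F) ≠ 0) (he : ∀ k, p ∣ Fintype.card F ^ k - 1 → 3 ∣ k)
    (hpS : p ∣ Nat.card (PSU 4 F 2)) : False := by
  classical
  have hfin : Finite (SU 4 F 2) := inferInstance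
  have hfr : finrank F (Fin 4 → F) = 4 := Module.finrank_fin_fun F
  have hpG : p ∣ Nat.card (SU 4 F 2) := hpS.trans (Subgroup.card_quotient_dvd_card _)
  have hpd : p ∣ Fintype.card F ^ 3 - 1 := by
    obtain ⟨x, hx⟩ := exists_prime_orderOf_dvd_card' p hpG
    have h : Sit (rhoSU 4 F 2) p 3 x := ⟨rhoSU_inj, hx, hp.out, hodd, hch, he, by rw [hfr]; norm_num⟩
    exact h.p_dvd
  have hN := Cfsg.Agent.S0280.result hF 4 (by norm_num)
  have hN' : Nat.card (PSU 4 F 2) = 25920 := by
    rw [Finset.prod_range_succ, Finset.prod_range_succ, Finset.prod_range_succ, Finset.prod_range_succ,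
      Finset.prod_range_zero, if_pos (by decide : Even 0), if_neg (by decide : ¬ Even 1),
      if_pos (by decide : Even 2), if_neg (by decide : ¬ Even 3)] at hN
    obtain ⟨C, hC⟩ : ∃ C, Nat.card (PSU 4 F 2) = C := ⟨_, rfl⟩
    rw [hC] at hN ⊢
    norm_num at hN
    omega
  rw [hF] at hpd he
  have h1 : p ∣ 3 ^ 2 * 7 := by norm_num at hpd ⊢; exact hpd
  rcases (hp.out.dvd_mul.1 h1) with h2 | h2
  · have := he 1 (by norm_num; exact hp.out.dvd_of_dvd_pow h2)
    omega
  · have h3 := (Nat.prime_dvd_prime_iff_eq hp.out (by norm_num)).1 h2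
    rw [hN', h3] at hpS
    exact absurd hpS (by decide)

/-- `Sp₆(2)`: there is no such prime. -/
theorem no_sp_six {p : ℕ} [hp : Fact p.Prime] (hodd : p ≠ 2) (hF : Fintype.card F = 2)
    (hch : (p : F) ≠ 0) (he : ∀ k, p ∣ Fintype.card F ^ k - 1 → 2 * 3 ∣ k)
    (hpS : p ∣ Nat.card (PSp 3 F)) : False := by
  have hfr : finrank F (Fin 3 ⊕ Fin 3 → F) = 6 := by
    rw [Module.finrank_fintype_fun_eq_card, Fintype.card_sum, Fintype.card_fin]
  have hpG : p ∣ Nat.card (Matrix.symplecticGroup (Fin 3) F) := hpS.trans (Subgroup.card_quotient_dvd_card _)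
  have hpd : p ∣ Fintype.card F ^ 6 - 1 := by
    obtain ⟨x, hx⟩ := exists_prime_orderOf_dvd_card' p hpG
    have h : Sit (rhoSp 3 F) p (2 * 3) x := ⟨rhoSp_inj, hx, hp.out, hodd, hch, he, by rw [hfr]; norm_num⟩
    exact h.p_dvd
  rw [hF] at hpd he
  have h1 : p ∣ 3 ^ 2 * 7 := by norm_num at hpd ⊢; exact hpd
  rcases (hp.out.dvd_mul.1 h1) with h2 | h2
  · have := he 2 (by norm_num; exact hp.out.dvd_of_dvd_pow h2)
    omega
  · have := he 3 (by norm_num; exact h2)
    omega

/-- `Ω₈⁺(2)`: there is no such prime. -/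
theorem no_plus_eight {p : ℕ} [hp : Fact p.Prime] (hodd : p ≠ 2) (hF : Fintype.card F = 2)
    (hch : (p : F) ≠ 0) (he : ∀ k, p ∣ Fintype.card F ^ k - 1 → 6 ∣ k)
    (hpS : p ∣ Nat.card (Cfsg.POmega F (Cfsg.quadFormPlus 4 F))) : False := by
  have hC := Cfsg.Agent.H75.OrthIdx.plus_count (F := F) 4 le_rfl
  have hG := Cfsg.Agent.H75.OrthIdx.good_plusForm (F := F) 4 le_rfl
  rw [← coe_plusForm] at hpS
  have hpd := om_p_dvd hodd hG hch he (by rw [hC.finrank]; norm_num) hpS
  rw [hF] at hpd he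
  have h1 : p ∣ 3 ^ 2 * 7 := by norm_num at hpd ⊢; exact hpd
  rcases (hp.out.dvd_mul.1 h1) with h2 | h2
  · have := he 2 (by norm_num; exact hp.out.dvd_of_dvd_pow h2)
    omega
  · have := he 3 (by norm_num; exact h2)
    omega

/-- **Orthogonal groups of plus type over `F_3`.** -/
theorem row_plus_three {p m : ℕ} [hp : Fact p.Prime] (hodd : p ≠ 2) (hm : 4 ≤ m) (hF : Fintype.card F = 3)
    (hch : (p : F) ≠ 0) (he : ∀ k, p ∣ Fintype.card F ^ k - 1 → 2 * m - 2 ∣ k)
    (hpS : p ∣ Nat.card (Cfsg.POmega F (Cfsg.quadFormPlus m F))) :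
    FprRow (p + 1) 1 p (Cfsg.POmega F (Cfsg.quadFormPlus m F)) := by
  have hC := Cfsg.Agent.H75.OrthIdx.plus_count (F := F) m hm
  have hG := Cfsg.Agent.H75.OrthIdx.good_plusForm (F := F) m hm
  have hcent : ∀ x : E (plusForm m F), Sit (rhoE (plusForm m F)) p (2 * m - 2) x →
      Nat.card (centralizer ({x} : Set (E (plusForm m F)))) ≤ (3 ^ (m - 1) + 1) * 2 := fun x hx =>
    E_cent_two_three hF hG hx (by rw [hC.finrank]; omega) (by rw [hF, ← pow_mul]; congr 1; omega)
  rcases Nat.lt_or_ge m 5 with h5 | h5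
  · have hm4 : m = 4 := by omega
    subst hm4
    have hs := Cfsg.Agent.S0296.result (F := F) 4 le_rfl
    have hN := Cfsg.Agent.S0293.result hF 4 le_rfl
    have hL : ∀ H : Subgroup (Cfsg.POmega F (Cfsg.quadFormPlus 4 F)), H ≠ ⊤ → 486 ≤ H.index := by
      intro H hH
      have h1 := Cfsg.Agent.H934.HeisD4.four_le hs H hH
      rw [hF] at h1
      by_contra hcon
      push Not at hcon
      have h2 : H.index ^ 2 ≤ 485 ^ 2 := Nat.pow_le_pow_left (by omega) 2
      norm_num at h1 h2
      omega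
    have hN' : Nat.card (Cfsg.POmega F (Cfsg.quadFormPlus 4 F)) = 4952179814400 := by
      norm_num only [Finset.prod_range_succ] at hN
      omega
    rw [← coe_plusForm] at hL hN' hpS ⊢
    have hpd := om_p_dvd hodd hG hch he (by rw [hC.finrank]; norm_num) hpS
    have hp7 : p = 7 := by
      rw [hF] at hpd he
      have h1 : p ∣ 2 ^ 3 * 7 * 13 := by norm_num at hpd ⊢; exact hpd
      rcases (hp.out.dvd_mul.1 h1) with h2 | h2
      · rcases (hp.out.dvd_mul.1 h2) with h3 | h3
        · exact absurd ((Nat.prime_dvd_prime_iff_eq hp.out Nat.prime_two).1 (hp.out.dvd_of_dvd_pow h3)) hodd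
        · exact (Nat.prime_dvd_prime_iff_eq hp.out (by norm_num)).1 h3
      · exfalso
        have := he 3 (by norm_num; exact h2.trans (by norm_num))
        omega
    subst hp7
    exact row_om_chk (p := 7) (L := 486) (N := 4952179814400) (M := 48) hodd hG hch he
      (by rw [hC.finrank]; norm_num) hpS hcent hL (by rw [hN']) (by norm_num) (by norm_num) (by decide +kernel)
  · have hL : ∀ H : Subgroup (Cfsg.POmega F (Cfsg.quadFormPlus m F)), H ≠ ⊤ →
        3 ^ (m - 2) * (3 ^ (m - 1) - 1) ≤ H.index := by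
      rw [← coe_plusForm]
      refine Cfsg.Agent.H75.OrthIdx.lower_transfer hG ?_
      intro H _ hne
      exact plus_idx_three hG hC (by rw [Nat.card_eq_fintype_card, hF]) hne
    rw [← coe_plusForm] at hL hpS ⊢
    refine row_om hodd hG hch he (by rw [hC.finrank]; omega) hpS hcent hL ?_
    obtain ⟨k, rfl⟩ : ∃ k, m = 5 + k := ⟨m - 5, by omega⟩
    have h := geom_le (Q := 3) (a := 13) (b := 3) (by norm_num) (by norm_num) k 4 (by norm_num)
    rw [show 5 + k - 2 = 3 + k by omega, show 5 + k - 1 = 3 + k + 1 by omega,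
      show 2 * (5 + k) - 2 + 1 = 9 + 2 * k by omega, pow_succ]
    obtain ⟨X, hX⟩ : ∃ X, 3 ^ (3 + k) = X := ⟨_, rfl⟩
    rw [hX] at h ⊢
    have hX27 : 27 ≤ X := by
      rw [← hX]
      calc 27 = 3 ^ 3 := by norm_num
        _ ≤ _ := Nat.pow_le_pow_right (by norm_num) (by omega)
    norm_num only [] at h
    obtain ⟨Y, hY⟩ : ∃ Y, X = Y + 1 := ⟨X - 1, by omega⟩
    subst hY
    rw [Nat.add_sub_cancel] at h
    have e1 : (Y + 1) * 3 - 1 = 3 * Y + 2 := by omega
    rw [e1]
    have h7 : 2 * (9 + 2 * k) + 8 ≤ Y := by omega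
    nlinarith only [h]

end special

end Cfsg.Agent.H409.Cyc

private theorem dce_6f66febaefcc : _root_.True := by
  try have : _root_.True := by simp only [_root_.Cfsg.POmega.congr_simp]
  exact _root_.True.intro
end
end
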